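import Cfsg.Agent.Lib.Extra.Wide.FiveFix
import Cfsg.Agent.Lib.Extra.SuzThree.Planes

/-!
# Two commuting isometries of order three rotating orthogonal planes

On an eight-dimensional space over the field with two elements the fixed space of the first one
carries the form of minus type in six variables, and the two are conjugate in `Ω`.
-/

set_option autoImplicit false
set_option linter.style.haveILetI false

namespace Cfsg.Lib.Extra.CoOneThree

open Cfsg Module Cfsg.Lib.Linear Cfsg.Lib.Linear.Orth Cfsg.Lib.Extra.Wide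
open Cfsg.Lib.Extra.SuzThree (act_thrice sum_range fix_range_zero three_decomp)
open scoped Matrix

variable {ι : Type} [Fintype ι] [DecidableEq ι] {Q : (ι → ZMod 2) → ZMod 2}
  {B : LinearMap.BilinForm (ZMod 2) (ι → ZMod 2)}

/-- An isometry of order three with a two-dimensional commutator. -/
structure Rot (Q : (ι → ZMod 2) → ZMod 2) (g : GL ι (ZMod 2)) : Prop where
  iso : g ∈ isometryGroup (ZMod 2) Q
  cube : g ^ 3 = 1
  rk : finrank (ZMod 2) (LinearMap.range (nMap g)) = 2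

theorem Rot.orth (C : Space Q B) {g : GL ι (ZMod 2)} (h : Rot Q g) {w u : ι → ZMod 2}
    (hw : g.val *ᵥ w = w) (hu : u ∈ LinearMap.range (nMap g)) : B w u = 0 := by
  obtain ⟨x, rfl⟩ := hu
  have e := C.B_act h.iso w x
  rw [hw] at e
  rw [nMap_apply, map_add, e, bit_self]

theorem Rot.plane (C : Space Q B) {g : GL ι (ZMod 2)} (h : Rot Q g) :
    ∃ u ∈ LinearMap.range (nMap g), u ≠ 0 ∧ Q u = 1 ∧ Q (g.val *ᵥ u) = 1 ∧ B u (g.val *ᵥ u) = 1 ∧
      g.val *ᵥ (g.val *ᵥ u) = u + g.val *ᵥ u ∧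
      ∀ r ∈ LinearMap.range (nMap g), ∃ i j : ZMod 2, r = i • u + j • (g.val *ᵥ u) := by
  set R := LinearMap.range (nMap g) with hR
  obtain ⟨u, hu, hu0⟩ := R.exists_mem_ne_zero_of_ne_bot fun e => by
    have := h.rk; rw [← hR, e, finrank_bot] at this; omega
  set u' := g.val *ᵥ u with hu'
  have hu'R : u' ∈ R := range_inv (Commute.refl g) hu
  have hsum := sum_range h.cube hu
  have hgu' : g.val *ᵥ u' = u + u' := (vadd_eq_zero hsum).symm
  have hne : u' ≠ u := fun e => hu0 (fix_range_zero h.cube hu e)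
  have hspan : ∀ r ∈ R, ∃ i j : ZMod 2, r = i • u + j • u' := by
    have hle : Submodule.span (ZMod 2) {u} ⊔ Submodule.span (ZMod 2) {u'} ≤ R :=
      sup_le ((Submodule.span_singleton_le_iff_mem _ _).2 hu) ((Submodule.span_singleton_le_iff_mem _ _).2 hu'R)
    have hnm : u' ∉ Submodule.span (ZMod 2) {u} := fun hm => by
      obtain ⟨c, hc⟩ := Submodule.mem_span_singleton.1 hm
      rcases bit c with rfl | rfl
      · rw [zero_smul] at hc
        exact hu0 (act_injective g (by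
          show g.val *ᵥ u = g.val *ᵥ 0
          rw [Matrix.mulVec_zero, ← hu', hc]))
      · exact hne (by rw [one_smul] at hc; exact hc.symm)
    have he : Submodule.span (ZMod 2) {u} ⊔ Submodule.span (ZMod 2) {u'} = R :=
      Submodule.eq_of_le_of_finrank_le hle (by
        have := finrank_sup_one hnm
        rw [finrank_span_singleton hu0] at this
        rw [h.rk]; exact this)
    intro r hr
    rw [← he] at hr
    obtain ⟨r1, h1, r2, h2, rfl⟩ := Submodule.mem_sup.1 hr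
    obtain ⟨i, rfl⟩ := Submodule.mem_span_singleton.1 h1
    obtain ⟨j, rfl⟩ := Submodule.mem_span_singleton.1 h2
    exact ⟨i, j, rfl⟩
  have hqu' : Q u' = Q u := mem_iso.1 h.iso u
  have huu : Q u = B u u' := by
    have e : Q (g.val *ᵥ u') = Q u' := mem_iso.1 h.iso u'
    rw [hgu', C.add, hqu'] at e
    linear_combination -e + bit_self (Q u)
  have hqu : Q u = 1 := (bit _).resolve_left fun e => hu0 (C.nondeg' fun x => by
    obtain ⟨w, r, hw, hr, rfl⟩ := three_decomp h.cube x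
    obtain ⟨i, j, rfl⟩ := hspan r hr
    rw [e] at huu
    simp [C.symm u w, h.orth C hw hu, B_self C, ← huu])
  rw [hqu] at huu hqu'
  exact ⟨u, hu, hu0, hqu, hqu', huu.symm, hgu', hspan⟩

/-- Vectors orthogonal to the commutator space are fixed. -/
theorem Rot.fix_of_orth (C : Space Q B) {g : GL ι (ZMod 2)} (h : Rot Q g) {x : ι → ZMod 2}
    (hx : ∀ r ∈ LinearMap.range (nMap g), B x r = 0) : g.val *ᵥ x = x := by
  obtain ⟨w, r, hw, hr, rfl⟩ := three_decomp h.cube x
  have hr0 : r = 0 := by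
    refine C.nondeg' fun y => ?_
    obtain ⟨w', r', hw', hr', rfl⟩ := three_decomp h.cube y
    have e := hx r' hr'
    rw [map_add, LinearMap.add_apply, h.orth C hw hr', zero_add] at e
    rw [map_add, e, C.symm r w', h.orth C hw' hr, add_zero]
  rw [hr0, add_zero, hw]

/-- Two commuting rotations of orthogonal planes with a totally singular line of fixed points. -/
structure Pair (Q : (ι → ZMod 2) → ZMod 2) (B : LinearMap.BilinForm (ZMod 2) (ι → ZMod 2))
    (g h : GL ι (ZMod 2)) : Prop where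
  space : Space Q B
  eight : Fintype.card ι = 8
  rot1 : Rot Q g
  rot2 : Rot Q h
  cross1 : ∀ u ∈ LinearMap.range (nMap g), h.val *ᵥ u = u
  cross2 : ∀ u ∈ LinearMap.range (nMap h), g.val *ᵥ u = u
  line : ∃ a c : ι → ZMod 2, g.val *ᵥ a = a ∧ h.val *ᵥ a = a ∧ g.val *ᵥ c = c ∧ h.val *ᵥ c = c ∧
    a ≠ 0 ∧ c ≠ 0 ∧ a ≠ c ∧ Q a = 0 ∧ Q c = 0 ∧ B a c = 0

namespace Pair

variable {g h : GL ι (ZMod 2)} (P : Pair Q B g h)
include P

theorem symm : Pair Q B h g := by
  obtain ⟨a, c, h1, h2, h3, h4, h5⟩ := P.line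
  exact ⟨P.space, P.eight, P.rot2, P.rot1, P.cross2, P.cross1, a, c, h2, h1, h4, h3, h5⟩

theorem fix_six : finrank (ZMod 2) (fixSpace g) = 6 := by
  have := finrank_range_nMap g
  have h1 := P.rot1.rk
  have h2 := P.eight
  omega

/-- A basis adapted to the two planes and the line. -/
theorem exists_basis : ∃ u r a b c d : ι → ZMod 2,
    u ∈ LinearMap.range (nMap g) ∧ r ∈ LinearMap.range (nMap h) ∧
    (g.val *ᵥ r = r ∧ g.val *ᵥ (h.val *ᵥ r) = h.val *ᵥ r ∧ g.val *ᵥ a = a ∧ g.val *ᵥ b = b ∧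
      g.val *ᵥ c = c ∧ g.val *ᵥ d = d) ∧
    (h.val *ᵥ a = a ∧ h.val *ᵥ b = b ∧ h.val *ᵥ c = c ∧ h.val *ᵥ d = d) ∧
    (Q u = 1 ∧ Q (g.val *ᵥ u) = 1 ∧ B u (g.val *ᵥ u) = 1 ∧ g.val *ᵥ (g.val *ᵥ u) = u + g.val *ᵥ u) ∧
    (Q r = 1 ∧ Q (h.val *ᵥ r) = 1 ∧ B r (h.val *ᵥ r) = 1 ∧ h.val *ᵥ (h.val *ᵥ r) = r + h.val *ᵥ r) ∧
    (Q a = 0 ∧ Q b = 0 ∧ Q c = 0 ∧ Q d = 0 ∧ B a b = 1 ∧ B c d = 1 ∧ B a c = 0 ∧ B a d = 0 ∧
      B b c = 0 ∧ B b d = 0) ∧
    (∀ x ∈ LinearMap.range (nMap g), ∃ i j : ZMod 2, x = i • u + j • (g.val *ᵥ u)) ∧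
    ∀ x ∈ LinearMap.range (nMap h), ∃ i j : ZMod 2, x = i • r + j • (h.val *ᵥ r) := by
  have C := P.space
  obtain ⟨u, hu, -, q1, q2, b12, hgu, span1⟩ := P.rot1.plane C
  obtain ⟨r, hr, -, q3, q4, b34, hhr, span2⟩ := P.rot2.plane C
  obtain ⟨a, c, ga, ha, gc, hc, a0, c0, hac, qa, qc, bac⟩ := P.line
  have hW : ∀ x : ι → ZMod 2, ∃ w, g.val *ᵥ w = w ∧ h.val *ᵥ w = w ∧
      ∀ e, g.val *ᵥ e = e → h.val *ᵥ e = e → B e x = B e w := fun x => by
    obtain ⟨w, s, hw, hs, rfl⟩ := three_decomp P.rot1.cube x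
    obtain ⟨w', s', hw', hs', rfl⟩ := three_decomp P.rot2.cube w
    have hgs' : g.val *ᵥ s' = s' := P.cross2 s' hs'
    rw [Matrix.mulVec_add, hgs'] at hw
    refine ⟨w', add_right_cancel hw, hw', fun e he he' => ?_⟩
    rw [map_add, map_add, P.rot1.orth C he hs, P.rot2.orth C he' hs', add_zero, add_zero]
  obtain ⟨b0, gb0, hb0, ab0, cb0⟩ : ∃ w, g.val *ᵥ w = w ∧ h.val *ᵥ w = w ∧ B a w = 1 ∧ B c w = 0 := by
    by_contra hno
    push Not at hno
    refine a0 (C.nondeg' fun x => ?_)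
    by_contra hx
    obtain ⟨w, gw, hw, e⟩ := hW x
    have haw : B a w = 1 := by rw [← e a ga ha]; exact (bit _).resolve_left hx
    have hcw : B c w = 1 := (bit _).resolve_left (hno w gw hw haw)
    refine hac (vadd_eq_zero (C.nondeg' fun y => ?_))
    obtain ⟨v, gv, hv, e'⟩ := hW y
    rw [map_add, LinearMap.add_apply, e' a ga ha, e' c gc hc]
    rcases bit (B a v) with h1 | h1 <;> rcases bit (B c v) with h2 | h2
    · rw [h1, h2, add_zero]
    · refine absurd ?_ (hno (w + v) (by rw [Matrix.mulVec_add, gw, gv]) (by rw [Matrix.mulVec_add, hw, hv])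
        (by rw [map_add, haw, h1, add_zero]))
      rw [map_add, hcw, h2, bit_self]
    · exact absurd h2 (hno v gv hv h1)
    · rw [h1, h2, bit_self]
  obtain ⟨d0, gd0, hd0, cd0, ad0⟩ : ∃ w, g.val *ᵥ w = w ∧ h.val *ᵥ w = w ∧ B c w = 1 ∧ B a w = 0 := by
    obtain ⟨x, hx⟩ : ∃ x, B c x ≠ 0 := by
      by_contra hno
      push Not at hno
      exact c0 (C.nondeg' hno)
    obtain ⟨w, gw, hw, e⟩ := hW x
    refine ⟨w + B a w • b0, by rw [Matrix.mulVec_add, Matrix.mulVec_smul, gw, gb0],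
      by rw [Matrix.mulVec_add, Matrix.mulVec_smul, hw, hb0], ?_, ?_⟩
    · rw [map_add, map_smul, cb0, smul_zero, add_zero, ← e c gc hc]
      exact (bit _).resolve_left hx
    · rw [map_add, map_smul, ab0, smul_eq_mul, mul_one, bit_self]
  set b := b0 + Q b0 • a with hb
  set d1 := d0 + B b d0 • a with hd1
  set d := d1 + Q d1 • c with hd
  have gb : g.val *ᵥ b = b := by rw [hb, Matrix.mulVec_add, Matrix.mulVec_smul, gb0, ga]
  have hbb : h.val *ᵥ b = b := by rw [hb, Matrix.mulVec_add, Matrix.mulVec_smul, hb0, ha]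
  have sq : ∀ t : ZMod 2, t ^ 2 = t := by decide
  have bab : B a b = 1 := by rw [hb, map_add, map_smul, B_self C, smul_zero, add_zero, ab0]
  have bcb : B c b = 0 := by rw [hb, map_add, map_smul, C.symm c a, bac, smul_zero, add_zero, cb0]
  have qb : Q b = 0 := by
    rw [hb, C.add, C.smul, qa, map_smul, C.symm b0 a, ab0]
    simp [bit_self]
  have bbd1 : B b d1 = 0 := by
    rw [hd1, map_add, map_smul, C.symm b a, bab, smul_eq_mul, mul_one, bit_self]
  have bad1 : B a d1 = 0 := by rw [hd1, map_add, map_smul, B_self C, smul_zero, add_zero, ad0]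
  have bcd1 : B c d1 = 1 := by rw [hd1, map_add, map_smul, C.symm c a, bac, smul_zero, add_zero, cd0]
  have qd : Q d = 0 := by
    rw [hd, C.add, C.smul, qc, map_smul, C.symm d1 c, bcd1]
    simp [bit_self]
  refine ⟨u, r, a, b, c, d, hu, hr,
    ⟨P.cross2 r hr, P.cross2 _ (range_inv (Commute.refl h) hr), ga, gb, gc, ?_⟩, ⟨ha, hbb, hc, ?_⟩,
    ⟨q1, q2, b12, hgu⟩, ⟨q3, q4, b34, hhr⟩, ⟨qa, qb, qc, qd, bab, ?_, bac, ?_, by rw [C.symm, bcb], ?_⟩,
    span1, span2⟩
  · simp only [hd, hd1, Matrix.mulVec_add, Matrix.mulVec_smul, gd0, ga, gc]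
  · simp only [hd, hd1, Matrix.mulVec_add, Matrix.mulVec_smul, hd0, ha, hc]
  · rw [hd, map_add, map_smul, B_self C, smul_zero, add_zero, bcd1]
  · rw [hd, map_add, map_smul, bac, smul_zero, add_zero, bad1]
  · rw [hd, map_add, map_smul, C.symm b c, bcb, smul_zero, add_zero, bbd1]

/-- The fixed space of the first rotation carries the form of minus type in six variables. -/
theorem exists_coords : ∃ σ : ((Fin 2 ⊕ Fin 2) ⊕ Fin 2 → ZMod 2) →ₗ[ZMod 2] (ι → ZMod 2),
    Function.Injective σ ∧ LinearMap.range σ = fixSpace g ∧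
      ∀ x, Q (σ x) = Cfsg.quadFormMinus 2 (ZMod 2) 1 1 x := by
  have C := P.space
  obtain ⟨u, r, a, b, c, d, -, hr, ⟨gr, gr', ga, gb, gc, gd⟩, ⟨ha, hb, hc, hd⟩, -, ⟨q3, q4, b34, -⟩,
    ⟨qa, qb, qc, qd, bab, bcd, bac, bad, bbc, bbd⟩, -, -⟩ := P.exists_basis
  have hr' := range_inv (Commute.refl h) hr
  set r' := h.val *ᵥ r
  have o1 := P.rot2.orth C ha hr
  have o2 := P.rot2.orth C ha hr'
  have o3 := P.rot2.orth C hb hr
  have o4 := P.rot2.orth C hb hr'
  have o5 := P.rot2.orth C hc hr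
  have o6 := P.rot2.orth C hc hr'
  have o7 := P.rot2.orth C hd hr
  have o8 := P.rot2.orth C hd hr'
  let σ : ((Fin 2 ⊕ Fin 2) ⊕ Fin 2 → ZMod 2) →ₗ[ZMod 2] (ι → ZMod 2) :=
    { toFun := fun x => x (.inl (.inl 0)) • a + x (.inl (.inr 0)) • b + x (.inl (.inl 1)) • c +
        x (.inl (.inr 1)) • d + x (.inr 0) • r + x (.inr 1) • r'
      map_add' := fun x y => by simp only [Pi.add_apply, add_smul]; abel
      map_smul' := fun t x => by simp only [Pi.smul_apply, smul_eq_mul, mul_smul, smul_add, RingHom.id_apply] }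
  have hσ : ∀ x, σ x = x (.inl (.inl 0)) • a + x (.inl (.inr 0)) • b + x (.inl (.inl 1)) • c +
      x (.inl (.inr 1)) • d + x (.inr 0) • r + x (.inr 1) • r' := fun x => rfl
  have hinj : Function.Injective σ := by
    rw [← LinearMap.ker_eq_bot, LinearMap.ker_eq_bot']
    intro x hx
    have e1 := congrArg (B b) hx
    have e2 := congrArg (B a) hx
    have e3 := congrArg (B d) hx
    have e4 := congrArg (B c) hx
    have e5 := congrArg (B r') hx
    have e6 := congrArg (B r) hx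
    simp [hσ, B_self C, C.symm b a, C.symm c a, C.symm d a, C.symm c b, C.symm d b, C.symm d c, C.symm r a,
      C.symm r b, C.symm r c, C.symm r d, C.symm r' a, C.symm r' b, C.symm r' c, C.symm r' d, C.symm r' r,
      bab, bcd, bac, bad, bbc, bbd, b34, o1, o2, o3, o4, o5, o6, o7, o8] at e1 e2 e3 e4 e5 e6
    funext i
    rcases i with (i | i) | i <;> fin_cases i
    · exact e1
    · exact e3
    · exact e2
    · exact e4
    · exact e5
    · exact e6
  refine ⟨σ, hinj, ?_, fun x => ?_⟩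
  · refine Submodule.eq_of_le_of_finrank_le ?_ (by
      rw [LinearMap.finrank_range_of_inj hinj, finrank_fintype_fun_eq_card, P.fix_six]; simp)
    rintro _ ⟨x, rfl⟩
    rw [mem_fix, hσ]
    simp only [Matrix.mulVec_add, Matrix.mulVec_smul, ga, gb, gc, gd, gr, gr']
  · rw [hσ, C.add, C.add, C.add, C.add, C.add, C.smul, C.smul, C.smul, C.smul, C.smul, C.smul]
    simp [Cfsg.quadFormMinus, Fin.sum_univ_two, qa, qb, qc, qd, q3, q4, bab, bcd, bac, bad, bbc, bbd, b34,
      o1, o2, o3, o4, o5, o6, o7, o8]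
    ring

/-- The two rotations are conjugate in `Ω`. -/
theorem exists_swap : ∃ k ∈ Cfsg.Geo.omegaGL Q, k * g * k⁻¹ = h := by
  have C := P.space
  obtain ⟨u, r, a, b, c, d, hu, hr, ⟨gr, gr', ga, gb, gc, gd⟩, ⟨ha, hb, hc, hd⟩, ⟨q1, q2, b12, hgu⟩,
    ⟨q3, q4, b34, hhr⟩, ⟨qa, qb, qc, qd, bab, bcd, bac, bad, bbc, bbd⟩, span1, span2⟩ := P.exists_basis
  have hu' := range_inv (Commute.refl g) hu
  have hr' := range_inv (Commute.refl h) hr
  set u' := g.val *ᵥ u with hu'd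
  set r' := h.val *ᵥ r with hr'd
  have x1 := P.rot1.orth C gr hu
  have x2 := P.rot1.orth C gr hu'
  have x3 := P.rot1.orth C gr' hu
  have x4 := P.rot1.orth C gr' hu'
  set p := a + b with hp
  have qp : Q p = 1 := by rw [hp, C.add, qa, qb, bab]; decide
  have gp : g.val *ᵥ p = p := by rw [hp, Matrix.mulVec_add, ga, gb]
  have hhp : h.val *ᵥ p = p := by rw [hp, Matrix.mulVec_add, ha, hb]
  have p1 := P.rot1.orth C gp hu
  have p2 := P.rot1.orth C gp hu'
  have p3 := P.rot2.orth C hhp hr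
  have p4 := P.rot2.orth C hhp hr'
  have bits : (1 : ZMod 2) + 1 = 0 := by decide
  clear_value p
  have qv2 : Q (u + r + p) = 1 := by
    simp [C.add, q1, q3, qp, C.symm u r, C.symm u p, C.symm r p, x1, p1, p3, bits]
  have qv3 : Q (u' + r' + p) = 1 := by
    simp [C.add, q2, q4, qp, C.symm u' r', C.symm u' p, C.symm r' p, x4, p2, p4, bits]
  have qv4 : Q (u + u' + r + r' + p) = 1 := by
    simp [C.add, q1, q2, q3, q4, qp, C.symm u r, C.symm u r', C.symm u' r, C.symm u' r', C.symm u p,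
      C.symm u' p, C.symm r p, C.symm r' p, x1, x2, x3, x4, p1, p2, p3, p4, b12, b34, bits]
  set k := rGL Q p * rGL Q (u + r + p) * (rGL Q (u' + r' + p) * rGL Q (u + u' + r + r' + p)) with hk
  have hkiso : k ∈ isometryGroup (ZMod 2) Q :=
    mul_mem (mul_mem (rGL_mem' C qp) (rGL_mem' C qv2)) (mul_mem (rGL_mem' C qv3) (rGL_mem' C qv4))
  have hkΩ : k ∈ Cfsg.Geo.omegaGL Q := by
    have hidx := (SmallIso.omega_facts C (by rw [P.eight]; norm_num)
      (Or.inr (Or.inr (by rw [P.eight]; norm_num)))).2.1 (show (2 : ZMod 2) = 0 by decide)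
    have hnot : ∀ {v} (hv : Q v = 1), (⟨rGL Q v, rGL_mem' C hv⟩ : ↥(isometryGroup (ZMod 2) Q)) ∉
        Cfsg.Omega (ZMod 2) Q := fun {v} hv hm => by
      obtain ⟨m, hm'⟩ := (mem_omega_iff C (by rw [P.eight]; norm_num) (by rw [P.eight]; decide)
        (rGL_mem' C hv)).1 ⟨_, hm, rfl⟩
      have := fix_rGL_card C hv
      have := P.eight
      omega
    have hmul : ∀ {v w} (hv : Q v = 1) (hw : Q w = 1), rGL Q v * rGL Q w ∈ Cfsg.Geo.omegaGL Q :=
      fun {v w} hv hw => ⟨⟨_, rGL_mem' C hv⟩ * ⟨_, rGL_mem' C hw⟩,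
        (Subgroup.mul_mem_iff_of_index_two hidx).2 (iff_of_false (hnot hv) (hnot hw)), rfl⟩
    exact mul_mem (hmul qp qv2) (hmul qv3 qv4)
  have hku : k.val *ᵥ u = r := by
    rw [hk]
    simp only [mul_act, rGL_apply C qp, rGL_apply C qv2, rGL_apply C qv3, rGL_apply C qv4]
    simp [B_self C, C.symm u r, C.symm u r', C.symm u' r, C.symm u' r', C.symm u' u, C.symm r' r,
      C.symm u p, C.symm u' p, C.symm r p, C.symm r' p, x1, x2, x3, x4, p1, p2, p3, p4, b12, b34, bits]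
    funext i
    simp only [Pi.add_apply]
    ring_nf
    simp [show (2 : ZMod 2) = 0 from rfl]
  have hku' : k.val *ᵥ u' = r' := by
    rw [hk]
    simp only [mul_act, rGL_apply C qp, rGL_apply C qv2, rGL_apply C qv3, rGL_apply C qv4]
    simp [B_self C, C.symm u r, C.symm u r', C.symm u' r, C.symm u' r', C.symm u' u, C.symm r' r,
      C.symm u p, C.symm u' p, C.symm r p, C.symm r' p, x1, x2, x3, x4, p1, p2, p3, p4, b12, b34, bits]
    funext i
    simp only [Pi.add_apply]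
    ring_nf
    simp [show (2 : ZMod 2) = 0 from rfl]
  refine ⟨k, hkΩ, ?_⟩
  rw [mul_inv_eq_iff_eq_mul]
  refine gl_ext fun x => ?_
  obtain ⟨w, s, hw, hs, rfl⟩ := three_decomp P.rot1.cube x
  obtain ⟨i, j, rfl⟩ := span1 s hs
  have hkw : h.val *ᵥ (k.val *ᵥ w) = k.val *ᵥ w := P.rot2.fix_of_orth C fun t ht => by
    obtain ⟨i', j', rfl⟩ := span2 t ht
    rw [← hku, ← hku', ← Matrix.mulVec_smul, ← Matrix.mulVec_smul, ← Matrix.mulVec_add, C.B_act hkiso,
      map_add, map_smul, map_smul, P.rot1.orth C hw hu, P.rot1.orth C hw hu', smul_zero, smul_zero, add_zero]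
  simp only [mul_act, Matrix.mulVec_add, Matrix.mulVec_smul, hw, hkw, hgu, hku, hku', ← hu'd, ← hr'd, hhr]

end Pair

end Cfsg.Lib.Extra.CoOneThree
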