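import Cfsg.Agent.Lib.Extra.CoOneThree.Perfect
import Cfsg.Agent.Lib.CosetEnum.Groups.SuzSimple
import Cfsg.Agent.Lib.Extra.Wide.Numbers

/-!
# The centralizer of an element of order three in Conway type

It is quasisimple with the Suzuki group as quotient, given the recognition of that group by the
centralizer of an involution.
-/

set_option autoImplicit false
set_option linter.style.haveILetI false

namespace Cfsg.Lib.Extra.CoOneThree

open Cfsg Module Cfsg.Lib.Linear Cfsg.Lib.Linear.Orth Cfsg.Lib.Extra Cfsg.Lib.Extra.Wide Cfsg.Lib.Extra.SuzLocal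
open Cfsg.Lib.Extra.SuzThree (Three commute_fix q_four fix_range_zero)
open scoped Matrix

universe u

variable {G : Type u} [Group G] [Finite G]

/-- The second rotation. -/
theorem exists_pair {ι : Type} [Fintype ι] [DecidableEq ι] (D : Data G ι) (h8 : Fintype.card ι = 8) {b y0 : G}
    (hb : Three D b) (hy3 : y0 ^ 3 = 1) (hyz : Commute y0 D.z) (hby : Commute b y0)
    (hnot : y0 ∉ Subgroup.zpowers b)
    (hcard : Nat.card ↥(D.Q ⊓ Subgroup.centralizer ({b} : Set G) ⊓ Subgroup.centralizer ({y0} : Set G)) = 32)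
    (A : Subgroup G) (hA : A ≤ D.Q ⊓ Subgroup.centralizer ({b} : Set G) ⊓ Subgroup.centralizer ({y0} : Set G))
    (hAc : ∀ a ∈ A, ∀ c ∈ A, Commute a c) (hA2 : ∀ a ∈ A, a * a = 1) (hA8 : Nat.card A = 8) :
    ∃ y, Three D y ∧ Commute b y ∧ Pair D.qf D.B (D.act b) (D.act y) := by
  classical
  have hR1 : Rot D.qf (D.act b) := ⟨hb.iso, hb.act3, hb.rk⟩
  set g := D.act b
  have hg0 : Commute g (D.act y0) := by
    show D.act b * D.act y0 = D.act y0 * D.act b
    rw [← D.act_mul _ _ hb.comm hyz, ← D.act_mul _ _ hyz hb.comm, hby.eq]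
  obtain ⟨i, hi⟩ := hR1.power D.space hg0
  set y := (b ^ i)⁻¹ * y0 with hydef
  have hbi := hb.comm.pow_left i
  have hby' : Commute b y := ((Commute.refl b).pow_right i).inv_right.mul_right hby
  have hyz' : Commute y D.z := hbi.inv_left.mul_left hyz
  have hy3' : y ^ 3 = 1 := by
    rw [hydef, ((hby.pow_left i).inv_left).mul_pow, hy3, mul_one, inv_pow, ← pow_mul, mul_comm, pow_mul,
      hb.cube, one_pow, inv_one]
  have hcross : ∀ r ∈ LinearMap.range (nMap g), (D.act y).val *ᵥ r = r := fun r hr => by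
    rw [hydef, D.act_mul _ _ hbi.inv_left hyz, D.act_inv hbi, D.act_pow hb.comm, mul_act, hi r hr, inv_act]
  set h := D.act y with hh
  have h3 : h ^ 3 = 1 := by rw [hh, ← D.act_pow hyz', hy3', D.act_one]
  have hsame : D.Q ⊓ Subgroup.centralizer ({b} : Set G) ⊓ Subgroup.centralizer ({y} : Set G) =
      D.Q ⊓ Subgroup.centralizer ({b} : Set G) ⊓ Subgroup.centralizer ({y0} : Set G) := by
    ext x
    simp only [Subgroup.mem_inf, Subgroup.mem_centralizer_singleton_iff]
    refine and_congr_right fun hx => ⟨fun hxy => ?_, fun hxy => ?_⟩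
    · have h1 : Commute x (b ^ i * y) := ((show Commute x b from hx.2).pow_right i).mul_right hxy
      rw [hydef, mul_inv_cancel_left] at h1
      exact h1
    · exact ((show Commute x b from hx.2).pow_right i).inv_right.mul_right hxy
  rw [← hsame] at hcard hA
  have hin : ∀ x ∈ D.Q ⊓ Subgroup.centralizer ({b} : Set G) ⊓ Subgroup.centralizer ({y} : Set G),
      D.cls x ∈ fixSpace g ⊓ fixSpace h := fun x hx =>
    ⟨mem_fix.2 (D.fix_of_commute hb.comm hx.1.1
        (show Commute x b from Subgroup.mem_centralizer_singleton_iff.1 hx.1.2).symm),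
      mem_fix.2 (D.fix_of_commute hyz' hx.1.1
        (show Commute x y from Subgroup.mem_centralizer_singleton_iff.1 hx.2).symm)⟩
  have hW := card_cls (D.Q ⊓ Subgroup.centralizer ({b} : Set G) ⊓ Subgroup.centralizer ({y} : Set G))
    (fun x hx => hx.1.1)
    ⟨⟨D.ctx.mem, Subgroup.mem_centralizer_singleton_iff.2 hb.comm.eq.symm⟩,
      Subgroup.mem_centralizer_singleton_iff.2 hyz'.eq.symm⟩ (fixSpace g ⊓ fixSpace h) hin fun v hv => by
      obtain ⟨q, hq, rfl⟩ := D.cls_surj v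
      exact ⟨q, ⟨⟨hq, Subgroup.mem_centralizer_singleton_iff.2
          (commute_fix hb.cube hb.comm hq (mem_fix.1 hv.1)).eq.symm⟩,
        Subgroup.mem_centralizer_singleton_iff.2 (commute_fix hy3' hyz' hq (mem_fix.1 hv.2)).eq.symm⟩, rfl⟩
  rw [hcard, Module.natCard_eq_pow_finrank (K := ZMod 2), Nat.card_zmod] at hW
  have hW4 : finrank (ZMod 2) ↥(fixSpace g ⊓ fixSpace h) = 4 :=
    Nat.pow_right_injective le_rfl (show 2 ^ _ = 2 ^ 4 by omega)
  have hle : (fixSpace g ⊓ fixSpace h) ⊔ LinearMap.range (nMap g) ≤ fixSpace h :=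
    sup_le inf_le_right fun r hr => mem_fix.2 (hcross r hr)
  have hdis : (fixSpace g ⊓ fixSpace h) ⊓ LinearMap.range (nMap g) = ⊥ :=
    (Submodule.eq_bot_iff _).2 fun v hv => fix_range_zero hR1.cube hv.2 (mem_fix.1 hv.1.1)
  have hsum := Submodule.finrank_sup_add_finrank_inf_eq (fixSpace g ⊓ fixSpace h) (LinearMap.range (nMap g))
  rw [hdis, finrank_bot, hW4, hR1.rk] at hsum
  have hle' := Submodule.finrank_mono hle
  have hrn := finrank_range_nMap h
  have hne : y ≠ 1 := fun e => hnot (by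
    rw [hydef, inv_mul_eq_one] at e
    rw [← e]
    exact pow_mem (Subgroup.mem_zpowers b) i)
  have hrk : finrank (ZMod 2) (LinearMap.range (nMap h)) = 2 := by
    have hr0 : finrank (ZMod 2) (LinearMap.range (nMap h)) ≠ 0 := fun e0 => by
      rw [Submodule.finrank_eq_zero] at e0
      have h1 : h = 1 := gl_ext fun x => by
        have : nMap h x = 0 := (Submodule.mem_bot _).1 (e0 ▸ LinearMap.mem_range_self (nMap h) x)
        rw [nMap_apply] at this
        rw [Units.val_one, Matrix.one_mulVec]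
        exact vadd_eq_zero this
      have hyQ := (D.act_ker y hyz').1 h1
      exact hne (by
        have := q_four hyQ
        rwa [pow_succ, hy3', one_mul] at this)
    have hr1 : finrank (ZMod 2) (LinearMap.range (nMap h)) ≠ 1 := fun e1 => by
      obtain ⟨u, hu, hu0⟩ := (LinearMap.range (nMap h)).exists_mem_ne_zero_of_ne_bot fun e => by
        rw [e, finrank_bot] at e1; norm_num at e1
      have hs : Submodule.span (ZMod 2) {u} = LinearMap.range (nMap h) :=
        Submodule.eq_of_le_of_finrank_le ((Submodule.span_singleton_le_iff_mem _ _).2 hu)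
          (by rw [e1, finrank_span_singleton hu0])
      obtain ⟨c, hc⟩ := Submodule.mem_span_singleton.1 (hs.symm ▸ range_inv (Commute.refl h) hu :
        h.val *ᵥ u ∈ Submodule.span (ZMod 2) {u})
      rcases bit c with rfl | rfl
      · rw [zero_smul] at hc
        exact act_ne_zero (g := h) hu0 hc.symm
      · rw [one_smul] at hc
        exact hu0 (fix_range_zero h3 hu hc.symm)
    omega
  have hR2 : Rot D.qf h := ⟨D.act_iso hyz', h3, hrk⟩
  refine ⟨y, ⟨hy3', hyz', hrk⟩, hby', ⟨D.space, h8, hR1, hR2, hcross, fun r hr => ?_, ?_⟩⟩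
  · exact hR1.fix_of_orth D.space fun u hu => by rw [D.space.symm]; exact hR2.orth D.space (hcross u hu) hr
  · have hpick : ∀ w : ι → ZMod 2, ∃ a ∈ A, D.cls a ≠ 0 ∧ D.cls a ≠ w := fun w => by
      by_contra hno
      push Not at hno
      obtain ⟨p, hp, hpw⟩ | hp : (∃ p ∈ A, D.cls p = w) ∨ ∀ p ∈ A, D.cls p ≠ w := by
        by_cases hc : ∃ p ∈ A, D.cls p = w
        · exact Or.inl hc
        · exact Or.inr fun p hp e => hc ⟨p, hp, e⟩
      · have hsub : (A : Set G) ⊆ {1, D.z, p, D.z * p} := fun a ha => by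
          have haQ := (hA ha).1.1
          simp only [Set.mem_insert_iff, Set.mem_singleton_iff]
          by_cases h0 : D.cls a = 0
          · rcases (D.cls_ker a haQ).1 h0 with e | e <;> simp [e]
          · rcases D.cls_eq (hA hp).1.1 haQ (hpw.trans (hno a ha h0).symm) with e | e <;> simp [e]
        have h' := Set.ncard_le_ncard hsub (Set.toFinite _)
        rw [← Nat.card_coe_set_eq, SetLike.coe_sort_coe, hA8] at h'
        have h1 := Set.ncard_insert_le (1 : G) {D.z, p, D.z * p}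
        have h2 := Set.ncard_insert_le D.z {p, D.z * p}
        have h4 := Set.ncard_insert_le p {D.z * p}
        rw [Set.ncard_singleton] at h4
        omega
      · have hsub : (A : Set G) ⊆ {1, D.z} := fun a ha => by
          rcases (D.cls_ker a (hA ha).1.1).1 (by_contra fun h0 => hp a ha (hno a ha h0)) with e | e <;> simp [e]
        have h' := Set.ncard_le_ncard hsub (Set.toFinite _)
        rw [← Nat.card_coe_set_eq, SetLike.coe_sort_coe, hA8] at h'
        have h1 := Set.ncard_insert_le (1 : G) {D.z}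
        rw [Set.ncard_singleton] at h1
        omega
    obtain ⟨a, ha, ha0, -⟩ := hpick 0
    obtain ⟨c, hc, hc0, hca⟩ := hpick (D.cls a)
    obtain ⟨ga, ha'⟩ := hin a (hA ha)
    obtain ⟨gc, hc'⟩ := hin c (hA hc)
    exact ⟨D.cls a, D.cls c, mem_fix.1 ga, mem_fix.1 ha', mem_fix.1 gc, mem_fix.1 hc', ha0, hc0, Ne.symm hca,
      (D.cls_sq a (hA ha).1.1).1 (hA2 a ha), (D.cls_sq c (hA hc).1.1).1 (hA2 c hc),
      (D.cls_comm a (hA ha).1.1 c (hA hc).1.1).1 (hAc a ha c hc)⟩

/-- The two conclusions. -/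
theorem main
    (hSuz : ∀ {H : Type u} [Group H] [Finite H] (z : H) (_ : orderOf z = 2)
      (Q : Subgroup (Subgroup.centralizer ({z} : Set H))) [Q.Normal]
      (_ : Cfsg.generalizedFittingSubgroup (Subgroup.centralizer ({z} : Set H)) = Q)
      (_ : Cfsg.IsExtraspecial 2 Q) (_ : Nat.card Q = 2 ^ 7)
      (_ : (Subgroup.centralizer ({z} : Set H)) ⧸ Q ≃* Cfsg.Omega (ZMod 2) (Cfsg.quadFormMinus 2 (ZMod 2) 1 1))
      (_ : ∃ g : H, (∃ hq : g * z * g⁻¹ ∈ Subgroup.centralizer ({z} : Set H),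
        (⟨g * z * g⁻¹, hq⟩ : Subgroup.centralizer ({z} : Set H)) ∈ Q) ∧ g * z * g⁻¹ ≠ z), Cfsg.Spor.IsoSuz H)
    (z : G) (hz : orderOf z = 2) (Q : Subgroup (Subgroup.centralizer ({z} : Set G))) [Q.Normal]
    (hF : Cfsg.generalizedFittingSubgroup (Subgroup.centralizer ({z} : Set G)) = Q)
    (hQ : Cfsg.IsExtraspecial 2 Q) (hcard : Nat.card Q = 2 ^ 9)
    (e : (Subgroup.centralizer ({z} : Set G)) ⧸ Q ≃* Cfsg.Omega (ZMod 2) (Cfsg.quadFormPlus 4 (ZMod 2)))
    (hnwc : ∃ g : G, (∃ hq : g * z * g⁻¹ ∈ Subgroup.centralizer ({z} : Set G),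
      (⟨g * z * g⁻¹, hq⟩ : Subgroup.centralizer ({z} : Set G)) ∈ Q) ∧ g * z * g⁻¹ ≠ z)
    (X : Subgroup (Subgroup.centralizer ({z} : Set G))) (hX : Nat.card X = 3) (hQX : Nat.card ↥⁅Q, X⁆ = 8)
    (hQXna : ¬ IsMulCommutative ↥⁅Q, X⁆) (Y₉ : Subgroup (Subgroup.centralizer ({z} : Set G))) (hXY : X ≤ Y₉)
    (hY₉ : Nat.card Y₉ = 9) (hY₉e : ∀ y ∈ Y₉, y ^ 3 = 1)
    (hCQ₉c : Nat.card ↥(Q ⊓ Subgroup.centralizer (Y₉ : Set (Subgroup.centralizer ({z} : Set G)))) = 32)
    (hCQ₉p : ∃ A : Subgroup (Subgroup.centralizer ({z} : Set G)),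
      A ≤ Q ⊓ Subgroup.centralizer (Y₉ : Set (Subgroup.centralizer ({z} : Set G))) ∧
      Cfsg.IsElementaryAbelian 2 A ∧ Nat.card A = 8)
    [((X.map (Subgroup.subtype (Subgroup.centralizer ({z} : Set G)))).subgroupOf (Subgroup.centralizer
      ((X.map (Subgroup.subtype (Subgroup.centralizer ({z} : Set G)))) : Set G))).Normal] :
    Cfsg.IsQuasisimple ↥(Subgroup.centralizer
      ((X.map (Subgroup.subtype (Subgroup.centralizer ({z} : Set G)))) : Set G)) ∧
    Cfsg.Spor.IsoSuz (↥(Subgroup.centralizer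
      ((X.map (Subgroup.subtype (Subgroup.centralizer ({z} : Set G)))) : Set G)) ⧸
      (X.map (Subgroup.subtype (Subgroup.centralizer ({z} : Set G)))).subgroupOf (Subgroup.centralizer
        ((X.map (Subgroup.subtype (Subgroup.centralizer ({z} : Set G)))) : Set G))) := by
  classical
  haveI : Fact (Nat.Prime 2) := ⟨Nat.prime_two⟩
  haveI : Fact (Nat.Prime 3) := ⟨Nat.prime_three⟩
  obtain ⟨Bm, Sm⟩ := exists_space_minus (F := ZMod 2) 3 1 1 aniso_two
  obtain ⟨Bp, Sp⟩ := exists_space_plus (F := ZMod 2) 4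
  have hΩ := two_mul_card_omega Sp (by simp)
  rw [card_plus_eight] at hΩ
  rcases model_cases hQ 3 (by rw [hcard]) with ⟨⟨f⟩⟩ | ⟨⟨f⟩⟩
  swap
  · exfalso
    have h := (exists_data z hz Q hF hQ (pairForm_nondeg _) (minusCoords 3) (minus_form 3) Sm (by simp)
      (by simp; decide) f e hnwc).1
    rw [card_minus_eight] at h
    rw [show Nat.card ↥(Cfsg.Omega (ZMod 2) (Cfsg.quadFormPlus 4 (ZMod 2))) = 174182400 by omega] at h
    norm_num at h
  obtain ⟨D, -, hDz, hDQ⟩ := (exists_data_eq z hz Q hF hQ (pairForm_nondeg _) (plusCoords 4) (plus_form 4) Sp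
    (by simp) (by simp; decide) f e hnwc).2 rfl
  obtain ⟨⟨a, haX⟩, ha⟩ := exists_prime_orderOf_dvd_card' (G := X) 3 (by rw [hX])
  rw [Subgroup.orderOf_mk] at ha
  have haG : orderOf (a : G) = 3 := (Subgroup.orderOf_coe a).trans ha
  have hzc : ∀ x : Subgroup.centralizer ({z} : Set G), Commute (x : G) D.z := fun x => by
    rw [hDz]; exact Subgroup.mem_centralizer_singleton_iff.1 x.2
  have haz := hzc a
  have hXa : Subgroup.zpowers a = X :=
    Subgroup.eq_of_le_of_card_ge (Subgroup.zpowers_le.2 haX) (by rw [Nat.card_zpowers, ha, hX])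
  have hle : ⁅Q, X⁆ ≤ Q := Subgroup.commutator_le_left Q X
  let R := LinearMap.range (nMap (D.act (a : G)))
  let Pr : Subgroup (Subgroup.centralizer ({z} : Set G)) :=
    { carrier := {x | (x : G) ∈ D.Q ∧ D.cls (x : G) ∈ R}
      one_mem' := ⟨one_mem _, by rw [OneMemClass.coe_one, D.cls_one]; exact zero_mem _⟩
      mul_mem' := fun {x y} hx hy => ⟨mul_mem hx.1 hy.1, by
        rw [Subgroup.coe_mul, D.cls_mul _ hx.1 _ hy.1]; exact add_mem hx.2 hy.2⟩
      inv_mem' := fun {x} hx => ⟨inv_mem hx.1, by rw [InvMemClass.coe_inv, D.cls_inv hx.1]; exact hx.2⟩ }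
  have hPr : ⁅Q, X⁆ ≤ Pr := Subgroup.commutator_le.2 fun q hq y hy => by
    rw [← hXa, ← mem_powers_iff_mem_zpowers] at hy
    obtain ⟨n, rfl⟩ := hy
    have hqQ : (q : G) ∈ D.Q := hDQ ▸ ⟨q, hq, rfl⟩
    have h := SuzThree.cls_range D haz hqQ n
    rw [commutatorElement_def]
    exact h
  have hb := SuzThree.three_of_commutator D haG haz (⁅Q, X⁆.map (Subgroup.centralizer ({z} : Set G)).subtype)
    (by rw [hDQ]; exact Subgroup.map_mono hle)
    (by rintro _ ⟨x, hx, rfl⟩; exact (hPr hx).2)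
    (fun q hq => by
      rw [hDQ] at hq
      obtain ⟨q', hq', rfl⟩ := hq
      exact ⟨_, Subgroup.commutator_mem_commutator hq' haX, rfl⟩)
    (by rw [Subgroup.card_map_of_injective (Subgroup.subtype_injective _), hQX])
    (by
      by_contra hc
      push Not at hc
      exact hQXna ⟨⟨fun u v => Subtype.ext (Subtype.ext (hc _ ⟨u, u.2, rfl⟩ _ ⟨v, v.2, rfl⟩))⟩⟩)
  obtain ⟨y0, hy0, hy0X⟩ : ∃ y0 ∈ Y₉, y0 ∉ X := by
    by_contra hno
    push Not at hno
    have := Subgroup.card_le_of_le (show Y₉ ≤ X from hno)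
    omega
  have hcomm : ∀ u ∈ Y₉, ∀ v ∈ Y₉, Commute u v := fun u hu v hv =>
    congrArg Subtype.val ((IsPGroup.isMulCommutative_of_card_eq_prime_sq (p := 3) (G := Y₉)
      (by rw [hY₉]; norm_num)).is_comm.comm ⟨u, hu⟩ ⟨v, hv⟩)
  have hab : Commute (a : G) (y0 : G) := congrArg Subtype.val (hcomm a (hXY haX) y0 hy0).eq
  have hgen : Subgroup.closure {a, y0} = Y₉ := by
    have hle1 : Subgroup.closure {a, y0} ≤ Y₉ := (Subgroup.closure_le _).2 (by
      rintro x (rfl | rfl)
      exacts [hXY haX, hy0])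
    have hlt : X < Subgroup.closure {a, y0} := lt_of_le_of_ne
      (by rw [← hXa, Subgroup.zpowers_le]; exact Subgroup.subset_closure (Or.inl rfl))
      fun e => hy0X (e ▸ Subgroup.subset_closure (Or.inr rfl))
    refine Subgroup.eq_of_le_of_card_ge hle1 ?_
    have hd := Subgroup.card_dvd_of_le hle1
    rw [hY₉] at hd ⊢
    obtain ⟨j, hj, ej⟩ := (Nat.dvd_prime_pow Nat.prime_three (m := 2)).1 hd
    have h3 : 3 < Nat.card ↥(Subgroup.closure {a, y0}) := by
      by_contra hle3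
      exact hlt.ne (Subgroup.eq_of_le_of_card_ge hlt.le (by omega))
    interval_cases j <;> omega
  have hmemC : ∀ x : Subgroup.centralizer ({z} : Set G),
      x ∈ Subgroup.centralizer (Y₉ : Set (Subgroup.centralizer ({z} : Set G))) ↔
        Commute (x : G) a ∧ Commute (x : G) y0 := fun x => by
    rw [← hgen, Subgroup.centralizer_closure, Subgroup.mem_centralizer_iff]
    refine ⟨fun h => ⟨congrArg Subtype.val (h a (Or.inl rfl)).symm, congrArg Subtype.val (h y0 (Or.inr rfl)).symm⟩,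
      fun h v hv => ?_⟩
    rcases hv with rfl | rfl
    exacts [Subtype.ext h.1.eq.symm, Subtype.ext h.2.eq.symm]
  set T := D.Q ⊓ Subgroup.centralizer ({(a : G)} : Set G) ⊓ Subgroup.centralizer ({(y0 : G)} : Set G) with hT
  have hTeq : (Q ⊓ Subgroup.centralizer (Y₉ : Set (Subgroup.centralizer ({z} : Set G)))).map
      (Subgroup.centralizer ({z} : Set G)).subtype = T := by
    ext x
    simp only [hT, hDQ, Subgroup.mem_map, Subgroup.mem_inf, Subgroup.mem_centralizer_singleton_iff]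
    constructor
    · rintro ⟨w, ⟨h1, h2⟩, rfl⟩
      obtain ⟨h3, h4⟩ := (hmemC w).1 h2
      exact ⟨⟨⟨w, h1, rfl⟩, h3.eq⟩, h4.eq⟩
    · rintro ⟨⟨⟨w, h1, rfl⟩, h3⟩, h4⟩
      exact ⟨w, ⟨h1, (hmemC w).2 ⟨h3, h4⟩⟩, rfl⟩
  obtain ⟨A, hA, ⟨hAc, hA2⟩, hA8⟩ := hCQ₉p
  obtain ⟨y, hy, hby, P⟩ := exists_pair D (by simp) hb
    (by rw [← SubmonoidClass.coe_pow, hY₉e y0 hy0]; rfl) (hzc y0) hab
    (fun h => by
      obtain ⟨i, hi⟩ := Subgroup.mem_zpowers_iff.1 h
      exact hy0X (hXa ▸ ⟨i, Subtype.ext (by rw [SubgroupClass.coe_zpow]; exact hi)⟩))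
    (by rw [← hT, ← hTeq, Subgroup.card_map_of_injective (Subgroup.subtype_injective _), hCQ₉c])
    (A.map (Subgroup.centralizer ({z} : Set G)).subtype) (by rw [← hT, ← hTeq]; exact Subgroup.map_mono hA)
    (by
      rintro _ ⟨u, hu, rfl⟩ _ ⟨v, hv, rfl⟩
      exact congrArg (fun w : ↥A => ((w : Subgroup.centralizer ({z} : Set G)) : G))
        (hAc.is_comm.comm ⟨u, hu⟩ ⟨v, hv⟩))
    (by
      rintro _ ⟨u, hu, rfl⟩
      rw [← map_mul, ← pow_two, hA2 u hu, map_one])
    (by rw [Subgroup.card_map_of_injective (Subgroup.subtype_injective _), hA8])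
  obtain ⟨hz', hn, hF', hext, hcard', ⟨e'⟩, hnwc'⟩ := local_data P hb
  haveI := hn
  have hiso : Cfsg.Spor.IsoSuz (CQ (a : G)) := hSuz (zb hb) hz' (qb hb) hF' hext hcard' e' hnwc'
  haveI : IsSimpleGroup (CQ (a : G)) := by
    obtain ⟨ε⟩ := hiso
    haveI := Cfsg.Lib.CosetEnum.SuzPres.isSuz.1
    exact ε.isSimpleGroup
  have hY : X.map (Subgroup.centralizer ({z} : Set G)).subtype = Subgroup.zpowers (a : G) := by
    rw [← hXa, MonoidHom.map_zpowers]; rfl
  have hC : Subgroup.centralizer ((X.map (Subgroup.centralizer ({z} : Set G)).subtype : Subgroup G) : Set G) =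
      Subgroup.centralizer ({(a : G)} : Set G) := by rw [hY, SuzThree.centralizer_zpowers]
  refine ⟨by rw [hC]; exact quasisimple P hb hy hby, ?_⟩
  haveI : ((Subgroup.zpowers (a : G)).subgroupOf (Subgroup.centralizer ({(a : G)} : Set G))).Normal := by
    rw [SuzThree.subgroupOf_self]; infer_instance
  obtain ⟨e1⟩ := SuzThree.quot_congr hC hY
  obtain ⟨ε⟩ := hiso
  exact ⟨e1.trans ((QuotientGroup.quotientMulEquivOfEq (SuzThree.subgroupOf_self (a : G))).trans ε)⟩

end Cfsg.Lib.Extra.CoOneThree
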