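import Cfsg.Agent.Lib.Extra.CoOneThree.Setup

/-!
# The centralizer of the first element is perfect
-/

set_option autoImplicit false
set_option linter.style.haveILetI false

namespace Cfsg.Lib.Extra.CoOneThree

open Cfsg Module Subgroup Cfsg.Lib.Linear Cfsg.Lib.Linear.Orth Cfsg.Lib.Extra Cfsg.Lib.Extra.Wide
open Cfsg.Lib.Extra.SuzLocal
open Cfsg.Lib.Extra.SuzThree (Three cDer cDer_mem cDer_comm cDer_map commute_fix q_four cmk_comm zpow_three)
open scoped Matrix

namespace Pair

variable {ι : Type} [Fintype ι] [DecidableEq ι] {Q : (ι → ZMod 2) → ZMod 2}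
  {B : LinearMap.BilinForm (ZMod 2) (ι → ZMod 2)} {g h : GL ι (ZMod 2)} (P : Pair Q B g h)
include P

theorem fix_both : finrank (ZMod 2) ↥(fixSpace g ⊓ fixSpace h) = 4 := by
  have htop : fixSpace g ⊔ fixSpace h = ⊤ := eq_top_iff.2 fun x _ => by
    obtain ⟨w, r, hw, hr, rfl⟩ := SuzThree.three_decomp P.rot2.cube x
    exact add_mem (Submodule.mem_sup_right (mem_fix.2 hw)) (Submodule.mem_sup_left (mem_fix.2 (P.cross2 r hr)))
  have := Submodule.finrank_sup_add_finrank_inf_eq (fixSpace g) (fixSpace h)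
  rw [htop, finrank_top, finrank_fintype_fun_eq_card, P.eight, P.fix_six, P.symm.fix_six] at this
  omega

/-- The second rotation is inverted in the centralizer of the first one. -/
theorem exists_inverter : ∃ k ∈ Cfsg.Geo.omegaGL Q, Commute g k ∧ k * h * k⁻¹ = h⁻¹ := by
  have C := P.space
  obtain ⟨u, r, a, b, c, d, hu, hr, ⟨gr, gr', ga, gb, gc, gd⟩, ⟨ha, hb, hc, hd⟩, -,
    ⟨q3, q4, b34, hhr⟩, ⟨qa, qb, qc, qd, bab, bcd, bac, bad, bbc, bbd⟩, -, span2⟩ := P.exists_basis
  have hr' := range_inv (Commute.refl h) hr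
  set r' := h.val *ᵥ r with hr'd
  set p := a + b with hp
  have qp : Q p = 1 := by rw [hp, C.add, qa, qb, bab]; decide
  have gp : g.val *ᵥ p = p := by rw [hp, Matrix.mulVec_add, ga, gb]
  have hhp : h.val *ᵥ p = p := by rw [hp, Matrix.mulVec_add, ha, hb]
  have p3 := P.rot2.orth C hhp hr
  have p4 := P.rot2.orth C hhp hr'
  clear_value p
  set k := rGL Q r * rGL Q p with hk
  have hkiso : k ∈ isometryGroup (ZMod 2) Q := mul_mem (rGL_mem' C q3) (rGL_mem' C qp)
  have hkΩ : k ∈ Cfsg.Geo.omegaGL Q := by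
    have hidx := (SmallIso.omega_facts C (by rw [P.eight]; norm_num)
      (Or.inr (Or.inr (by rw [P.eight]; norm_num)))).2.1 (show (2 : ZMod 2) = 0 by decide)
    have hnot : ∀ {v} (hv : Q v = 1), (⟨rGL Q v, rGL_mem' C hv⟩ : ↥(isometryGroup (ZMod 2) Q)) ∉
        Cfsg.Omega (ZMod 2) Q := fun {v} hv hm => by
      obtain ⟨m, hm'⟩ := (mem_omega_iff C (by rw [P.eight]; norm_num) (by rw [P.eight]; decide)
        (rGL_mem' C hv)).1 ⟨_, hm, rfl⟩
      have := fix_rGL_card C hv
      have := P.eight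
      omega
    exact ⟨⟨_, rGL_mem' C q3⟩ * ⟨_, rGL_mem' C qp⟩,
      (Subgroup.mul_mem_iff_of_index_two hidx).2 (iff_of_false (hnot q3) (hnot qp)), rfl⟩
  have hkapp : ∀ x, k.val *ᵥ x = (x + B p x • p) + B r (x + B p x • p) • r := fun x => by
    rw [hk, mul_act, rGL_apply C qp, rGL_apply C q3]
  have hkr : k.val *ᵥ r = r := by simp [hkapp, p3, B_self C]
  have hkr' : k.val *ᵥ r' = r + r' := by
    simp [hkapp, p4, b34, add_comm r']
  refine ⟨k, hkΩ, gl_ext fun x => ?_, ?_⟩
  · have hB : ∀ v, g.val *ᵥ v = v → B v (g.val *ᵥ x) = B v x := fun v hv => by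
      conv_lhs => rw [← hv]
      exact C.B_act P.rot1.iso v x
    simp only [mul_act, hkapp, Matrix.mulVec_add, Matrix.mulVec_smul, gp, gr, map_add, map_smul,
      hB p gp, hB r gr]
  · rw [mul_inv_eq_iff_eq_mul]
    refine gl_ext fun x => ?_
    obtain ⟨w, s, hw, hs, rfl⟩ := SuzThree.three_decomp P.rot2.cube x
    obtain ⟨i, j, rfl⟩ := span2 s hs
    have hkw : h.val *ᵥ (k.val *ᵥ w) = k.val *ᵥ w := P.rot2.fix_of_orth C fun t ht => by
      obtain ⟨i', j', rfl⟩ := span2 t ht
      rw [hkapp]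
      simp only [map_add, map_smul, LinearMap.add_apply, LinearMap.smul_apply, P.rot2.orth C hw hr,
        P.rot2.orth C hw hr', P.rot2.orth C hhp hr, P.rot2.orth C hhp hr', B_self C, b34, C.symm r w,
        C.symm r p, smul_eq_mul, mul_zero, add_zero, mul_one]
    have hinv : ∀ {v}, h.val *ᵥ v = v → h⁻¹.val *ᵥ v = v := fun {v} hv => by
      conv_lhs => rw [← hv]
      rw [inv_act]
    have h1 : h⁻¹.val *ᵥ r = r + r' := by
      have e := act_inv h r
      refine act_injective h ?_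
      show h.val *ᵥ (h⁻¹.val *ᵥ r) = h.val *ᵥ (r + r')
      rw [e, Matrix.mulVec_add, ← hr'd, hhr, ← add_assoc, add_comm r', add_assoc, vadd_self, add_zero]
    have h2 : h⁻¹.val *ᵥ r' = r := by rw [hr'd, inv_act]
    simp only [mul_act, Matrix.mulVec_add, Matrix.mulVec_smul, hw, hinv hkw, hhr, ← hr'd, hkr, hkr',
      h1, h2]
    simp only [smul_add]
    abel

end Pair

variable {G : Type*} [Group G] {ι : Type} [Fintype ι] [DecidableEq ι] {D : Data G ι} {b y : G}
variable [Finite G] (P : Pair D.qf D.B (D.act b) (D.act y)) (hb : Three D b)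

/-- The quotient is not abelian, so it is its own derived group when simple. -/
theorem noncomm [IsSimpleGroup (CQ b)] (P : Pair D.qf D.B (D.act b) (D.act y)) (hb : Three D b) :
    center (CQ b) = ⊥ ∧ commutator (CQ b) = ⊤ := by
  obtain ⟨-, -, -, -, -, -, g, -, hne⟩ := local_data P hb
  have hne' : center (CQ b) ≠ ⊤ := fun h => hne (by
    rw [mem_center_iff.1 (h ▸ mem_top (zb hb) : zb hb ∈ center (CQ b)) g, mul_inv_cancel_right])
  refine ⟨((inferInstance : (center (CQ b)).Normal).eq_bot_or_eq_top).resolve_right hne',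
    ((inferInstance : (commutator (CQ b)).Normal).eq_bot_or_eq_top).resolve_left fun h => hne' ?_⟩
  exact (commutator_eq_bot_iff_center_eq_top _).1 h

variable [IsSimpleGroup (CQ b)]
include P hb

theorem cover {g : G} (hg : Commute g b) : ∃ x ∈ cDer b, ∃ i : ℤ, g = x * b ^ i := by
  set C := centralizer ({b} : Set G)
  have hmap : (commutator ↥C).map (QuotientGroup.mk' (selfGrp b)) = ⊤ := by
    rw [_root_.commutator_def, map_commutator, ← MonoidHom.range_eq_map,
      MonoidHom.range_eq_top.2 (QuotientGroup.mk'_surjective _), ← _root_.commutator_def, (noncomm P hb).2]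
  obtain ⟨⟨x, hxC⟩, hx, e⟩ := hmap.symm ▸ mem_top (cmk hg)
  have hxd : x ∈ cDer b := by
    rw [cDer, ← map_subtype_commutator]
    exact ⟨⟨x, hxC⟩, hx, rfl⟩
  obtain ⟨i, hi⟩ := (cmk_eq (cDer_comm hxd) hg).1 e
  exact ⟨x, hxd, i, hi⟩

theorem four_mem {g : G} (hg : Commute g b) (h4 : g ^ 4 = 1) : g ∈ cDer b := by
  obtain ⟨x, hx, i, e⟩ := cover P hb hg
  have h3 : g ^ 3 ∈ cDer b := by
    rw [e, ((cDer_comm hx).zpow_right i).mul_pow, ← zpow_natCast (b ^ i), ← zpow_mul, mul_comm i, zpow_mul,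
      zpow_natCast, hb.cube, one_zpow, mul_one]
    exact pow_mem hx 3
  have e' : g = (g ^ 3)⁻¹ := eq_inv_of_mul_eq_one_left (by rw [← pow_succ', h4])
  rw [e']
  exact inv_mem h3

theorem second_mem (hy : Three D y) (hby : Commute b y) : y ∈ cDer b := by
  obtain ⟨k, hk, hgk, he⟩ := P.exists_inverter
  obtain ⟨c, hcz, hcb, rfl⟩ := SuzThree.lift_comm hb.cube hb.comm hk hgk
  have hcy : Commute (c * y * c⁻¹) D.z := (hcz.mul_left hy.comm).mul_left hcz.inv_left
  have hs : c * y * c⁻¹ * y ∈ D.Q := (D.act_ker _ (hcy.mul_left hy.comm)).1 (by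
    rw [D.act_mul _ _ hcy hy.comm, D.act_mul _ _ (hcz.mul_left hy.comm) hcz.inv_left,
      D.act_mul _ _ hcz hy.comm, D.act_inv hcz, he, inv_mul_cancel])
  have hsb : Commute (c * y * c⁻¹ * y) b := ((hcb.mul_left hby.symm).mul_left hcb.inv_left).mul_left hby.symm
  have h2 := mul_mem (inv_mem (cDer_mem hcb hby.symm)) (four_mem P hb hsb (q_four hs))
  rw [show (c * y * c⁻¹ * y⁻¹)⁻¹ * (c * y * c⁻¹ * y) = y * y by group] at h2
  have h4 := mul_mem h2 h2
  rwa [show y * y * (y * y) = y ^ 3 * y by simp only [pow_succ, pow_zero, one_mul, mul_assoc], hy.cube,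
    one_mul] at h4

omit [Finite G] [IsSimpleGroup (CQ b)] P in
theorem zpow_der (hnb : b ∉ cDer b) {i : ℤ} (h : b ^ i ∈ cDer b) : b ^ i = 1 := by
  obtain ⟨l, hl, e⟩ := zpow_three hb.cube i
  rw [e] at h ⊢
  interval_cases l
  · rw [pow_zero]
  · exact absurd (by simpa using h) hnb
  · refine absurd ?_ hnb
    have hm := mul_mem h h
    rwa [← pow_add, pow_succ, hb.cube, one_mul] at hm

theorem first_mem (hy : Three D y) (hby : Commute b y) : b ∈ cDer b := by
  classical
  by_contra hnb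
  have hy' := second_mem P hb hy hby
  obtain ⟨hz, hn, hF, hext, hcard, ⟨e⟩, hnwc⟩ := local_data P hb
  haveI := hn
  obtain ⟨D', M, hDz, hDQ⟩ := SuzThree.exists_model_eq (zb hb) hz (qb hb) hF hext hcard e hnwc
  have hmQ : ∀ x, x ∈ D'.Q ↔ ∃ q ∈ D.Q, ∃ hq : Commute q b, cmk hq = x := fun x => by
    rw [hDQ]
    constructor
    · rintro ⟨w, hw, rfl⟩
      exact hw
    · rintro ⟨q, hq, hqb, rfl⟩
      exact ⟨⟨cmk hqb, mem_centralizer_singleton_iff.2 (cmk_comm (ha := hqb) (hb := hb.comm.symm) (D.ctx.central q hq).symm).eq⟩,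
        ⟨q, hq, hqb, rfl⟩, rfl⟩
  set yb := cmk hby.symm with hyb
  have hyz : Commute yb D'.z := by rw [hDz]; exact cmk_comm hy.comm
  have hy3 : yb ^ 3 = 1 := by rw [cmk_pow, cmk_one]; exact ⟨0, by rw [hy.cube, zpow_zero]⟩
  have hT : Three D' yb := by
    refine ⟨hy3, hyz, ?_⟩
    let R := D.Q ⊓ centralizer ({b} : Set G) ⊓ centralizer ({y} : Set G)
    have hR : ∀ x : R, Commute (x : G) b ∧ Commute (x : G) y := fun x =>
      ⟨mem_centralizer_singleton_iff.1 x.2.1.2, mem_centralizer_singleton_iff.1 x.2.2⟩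
    let f : R → ↥(D'.Q ⊓ centralizer ({yb} : Set (CQ b))) := fun x =>
      ⟨cmk (hR x).1, (hmQ _).2 ⟨x, x.2.1.1, (hR x).1, rfl⟩,
        mem_centralizer_singleton_iff.2 (cmk_comm (ha := (hR x).1) (hb := hby.symm) (hR x).2).eq⟩
    have hf : Function.Bijective f := by
      refine ⟨fun x x' e => Subtype.ext (eq_of_four hb (hR x).1 (hR x').1 (q_four x.2.1.1) (q_four x'.2.1.1)
        (congrArg Subtype.val e)), fun w => ?_⟩
      obtain ⟨q, hq, hqb, ew⟩ := (hmQ _).1 w.2.1
      have hc : Commute (cmk hqb) yb := ew ▸ mem_centralizer_singleton_iff.1 w.2.2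
      obtain ⟨i, hi⟩ := (cmk_eq hby.symm ((hqb.mul_left hby.symm).mul_left hqb.inv_left)).1
        (show yb = cmk hqb * yb * (cmk hqb)⁻¹ by rw [hc.eq, mul_inv_cancel_right])
      have hd := cDer_mem hqb hby.symm
      rw [hi, ((hby.zpow_left i).symm).eq, mul_inv_cancel_right] at hd
      rw [zpow_der hb hnb hd, mul_one] at hi
      exact ⟨⟨q, ⟨hq, mem_centralizer_singleton_iff.2 hqb.eq⟩, mem_centralizer_singleton_iff.2
        (mul_inv_eq_iff_eq_mul.1 hi)⟩, Subtype.ext ew⟩
    have h1 := card_cls R (fun x hx => hx.1.1)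
      ⟨⟨D.ctx.mem, mem_centralizer_singleton_iff.2 hb.comm.eq.symm⟩, mem_centralizer_singleton_iff.2 hy.comm.eq.symm⟩
      (fixSpace (D.act b) ⊓ fixSpace (D.act y))
      (fun x hx => ⟨mem_fix.2 (D.fix_of_commute hb.comm hx.1.1
          (show Commute x b from mem_centralizer_singleton_iff.1 hx.1.2).symm),
        mem_fix.2 (D.fix_of_commute hy.comm hx.1.1
          (show Commute x y from mem_centralizer_singleton_iff.1 hx.2).symm)⟩)
      fun v hv => by
        obtain ⟨q, hq, rfl⟩ := D.cls_surj v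
        exact ⟨q, ⟨⟨hq, mem_centralizer_singleton_iff.2 (commute_fix hb.cube hb.comm hq (mem_fix.1 hv.1)).eq.symm⟩,
          mem_centralizer_singleton_iff.2 (commute_fix hy.cube hy.comm hq (mem_fix.1 hv.2)).eq.symm⟩, rfl⟩
    have h2 := card_fixed (D := D') hy3 hyz
    rw [← Nat.card_eq_of_bijective f hf, h1, Module.natCard_eq_pow_finrank (K := ZMod 2),
      Module.natCard_eq_pow_finrank (K := ZMod 2) (V := fixSpace (D'.act yb)), Nat.card_zmod, P.fix_both] at h2
    have h4 := Nat.pow_right_injective le_rfl (Nat.eq_of_mul_eq_mul_left two_pos h2)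
    have := finrank_range_nMap (D'.act yb)
    have := M.six.card
    omega
  obtain ⟨T, hT0⟩ := hT.exists_tri M
  have hperf : ⁅centralizer ({yb} : Set (CQ b)), centralizer ({yb} : Set (CQ b))⁆ =
      centralizer ({yb} : Set (CQ b)) := by
    rw [← hT0]; exact Subgroup.isPerfect_iff.1 T.perfect
  let L := centralizer ({b} : Set G) ⊓ centralizer ({y} : Set G)
  have hL : ∀ x : L, Commute (x : G) b ∧ Commute (x : G) y := fun x =>
    ⟨mem_centralizer_singleton_iff.1 x.2.1, mem_centralizer_singleton_iff.1 x.2.2⟩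
  let ψ : L →* CQ b := MonoidHom.mk' (fun x => cmk (hL x).1) fun x x' => rfl
  have hψ : ψ.range = centralizer ({yb} : Set (CQ b)) := by
    refine le_antisymm ?_ fun w hw => ?_
    · rintro _ ⟨x, rfl⟩
      exact mem_centralizer_singleton_iff.2 (cmk_comm (ha := (hL x).1) (hb := hby.symm) (hL x).2).eq
    · obtain ⟨g, hg, rfl⟩ := cmk_surj w
      obtain ⟨i, hi⟩ := (cmk_eq hby.symm ((hg.mul_left hby.symm).mul_left hg.inv_left)).1
        (show yb = cmk hg * yb * (cmk hg)⁻¹ by
          rw [show cmk hg * yb = yb * cmk hg from mem_centralizer_singleton_iff.1 hw, mul_inv_cancel_right])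
      have hd := cDer_mem hg hby.symm
      rw [hi, ((hby.zpow_left i).symm).eq, mul_inv_cancel_right] at hd
      rw [zpow_der hb hnb hd, mul_one] at hi
      exact ⟨⟨g, mem_centralizer_singleton_iff.2 hg.eq, mem_centralizer_singleton_iff.2
        (mul_inv_eq_iff_eq_mul.1 hi)⟩, rfl⟩
  have hmap : (commutator L).map ψ = centralizer ({yb} : Set (CQ b)) := by
    rw [_root_.commutator_def, map_commutator, ← MonoidHom.range_eq_map, hψ, hperf]
  obtain ⟨l, hl, el⟩ := hmap.symm ▸ (mem_centralizer_singleton_iff.2 rfl : yb ∈ centralizer ({yb} : Set (CQ b)))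
  have hl' : (l : G) ∈ ⁅L, L⁆ := by rw [← map_subtype_commutator]; exact ⟨l, hl, rfl⟩
  have hlb : (l : G) ∈ cDer b := commutator_mono inf_le_left inf_le_left hl'
  have hly : (l : G) ∈ cDer y := commutator_mono inf_le_right inf_le_right hl'
  obtain ⟨i, hi⟩ := (cmk_eq (hL l).1 hby.symm).1 el
  have hbi : b ^ i ∈ cDer b := by
    have := mul_mem (inv_mem hlb) hy'
    rwa [hi, inv_mul_cancel_left] at this
  rw [zpow_der hb hnb hbi, mul_one] at hi
  have hyy : y ∈ cDer y := hi ▸ hly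
  obtain ⟨k, hk, he⟩ := P.exists_swap
  obtain ⟨c, hc, rfl⟩ := D.act_surj k hk
  obtain ⟨q, hq, eq'⟩ := SuzThree.conj_of_act (b := c * b * c⁻¹) (b' := y) (by rw [conj_pow, hb.cube]; simp)
    ((hc.mul_left hb.comm).mul_left hc.inv_left) hy.cube hy.comm (by
      rw [D.act_mul _ _ (hc.mul_left hb.comm) hc.inv_left, D.act_mul _ _ hc hb.comm, D.act_inv hc, he])
  refine hnb ?_
  have hcb : (q * c)⁻¹ * y * (q * c)⁻¹⁻¹ = b := by rw [← eq']; group
  have := cDer_map hcb hyy
  rwa [hcb] at this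

/-- The centralizer of the first element is quasisimple. -/
theorem quasisimple (hy : Three D y) (hby : Commute b y) :
    Cfsg.IsQuasisimple ↥(centralizer ({b} : Set G)) := by
  refine ⟨?_, ?_⟩
  · rw [Subgroup.isPerfect_iff]
    refine le_antisymm (commutator_le.2 fun a ha c hc => by
      rw [commutatorElement_def]
      exact mul_mem (mul_mem (mul_mem ha hc) (inv_mem ha)) (inv_mem hc)) fun g hg => ?_
    obtain ⟨x, hx, i, rfl⟩ := cover P hb (mem_centralizer_singleton_iff.1 hg)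
    exact mul_mem hx (zpow_mem (first_mem P hb hy hby) i)
  · have hZ : center ↥(centralizer ({b} : Set G)) = selfGrp b := by
      refine le_antisymm (fun x hx => ?_) ((zpowers_le).2 (mem_center_iff.2 fun g =>
        Subtype.ext (mem_centralizer_singleton_iff.1 g.2)))
      have hm : QuotientGroup.mk' (selfGrp b) x ∈ center (CQ b) := mem_center_iff.2 fun q => by
        obtain ⟨q, rfl⟩ := QuotientGroup.mk'_surjective _ q
        rw [← map_mul, ← map_mul, mem_center_iff.1 hx q]
      rw [(noncomm P hb).1, mem_bot] at hm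
      exact (QuotientGroup.eq_one_iff x).1 hm
    exact (QuotientGroup.quotientMulEquivOfEq hZ).isSimpleGroup

end Cfsg.Lib.Extra.CoOneThree
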