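import Cfsg.Agent.Lib.Extra.CoOneThree.Geo

/-!
# The centralizer of the first rotation in `Ω` acting on its fixed space
-/

set_option autoImplicit false
set_option linter.style.haveILetI false

namespace Cfsg.Lib.Extra.CoOneThree

open Cfsg Module Cfsg.Lib.Linear Cfsg.Lib.Linear.Orth Cfsg.Lib.Extra.Wide
open Cfsg.Lib.Extra.SuzThree (three_decomp fix_range_zero)
open scoped Matrix

variable {ι : Type} [Fintype ι] [DecidableEq ι] {Q : (ι → ZMod 2) → ZMod 2}
  {B : LinearMap.BilinForm (ZMod 2) (ι → ZMod 2)}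

/-- A commuting isometry acts on the plane as a power of the rotation. -/
theorem Rot.power (C : Space Q B) {g k : GL ι (ZMod 2)} (h : Rot Q g) (hc : Commute g k) :
    ∃ i : ℕ, ∀ r ∈ LinearMap.range (nMap g), k.val *ᵥ r = (g ^ i).val *ᵥ r := by
  obtain ⟨u, hu, hu0, -, -, -, hgu, hspan⟩ := h.plane C
  obtain ⟨i, j, e⟩ := hspan _ (range_inv hc hu)
  obtain ⟨n, hn⟩ : ∃ n : ℕ, k.val *ᵥ u = (g ^ n).val *ᵥ u := by
    rcases bit i with rfl | rfl <;> rcases bit j with rfl | rfl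
    · exact absurd (by simpa using e) (act_ne_zero (g := k) hu0)
    · exact ⟨1, by rw [e, pow_one]; simp⟩
    · exact ⟨0, by rw [e, pow_zero]; simp⟩
    · exact ⟨2, by rw [e, pow_two, mul_act, hgu]; simp⟩
  refine ⟨n, fun r hr => ?_⟩
  obtain ⟨i', j', rfl⟩ := hspan r hr
  simp only [Matrix.mulVec_add, Matrix.mulVec_smul, hn]
  rw [← mul_act, ← hc.eq, mul_act, hn, ← mul_act g, (Commute.self_pow g n).eq, mul_act]

namespace Pair

variable {g h : GL ι (ZMod 2)} (P : Pair Q B g h)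
include P

/-- An element fixing the fixed space of the rotation is one of its powers. -/
theorem mem_powers {k : GL ι (ZMod 2)} (hc : Commute g k) (hf : ∀ w, g.val *ᵥ w = w → k.val *ᵥ w = w) :
    ∃ i : ℕ, k = g ^ i := by
  obtain ⟨i, hi⟩ := P.rot1.power P.space hc
  refine ⟨i, gl_ext fun x => ?_⟩
  obtain ⟨w, r, hw, hr, rfl⟩ := three_decomp P.rot1.cube x
  rw [Matrix.mulVec_add, Matrix.mulVec_add, hf w hw, hi r hr, pow_fix hw]

/-- The restriction to the fixed space maps the centralizer in `Ω` onto `Ω` in six variables. -/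
theorem quot : ∃ ρ : ↥(Cfsg.Geo.omegaGL Q ⊓ Subgroup.centralizer ({g} : Set (GL ι (ZMod 2)))) →*
      ↥(Cfsg.Omega (ZMod 2) (Cfsg.quadFormMinus 2 (ZMod 2) 1 1)), Function.Surjective ρ ∧
      ∀ k, ρ k = 1 ↔ ∀ w, g.val *ᵥ w = w → (k : GL ι (ZMod 2)).val *ᵥ w = w := by
  classical
  have C := P.space
  have hgiso := P.rot1.iso
  have h3 := P.rot1.cube
  have hn : 5 ≤ Fintype.card ι := by rw [P.eight]; norm_num
  have he : Even (Fintype.card ι) := by rw [P.eight]; decide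
  obtain ⟨σ, hσi, hσr, hσq⟩ := P.exists_coords
  have hσW : ∀ x, g.val *ᵥ σ x = σ x := fun x => mem_fix.1 (hσr ▸ LinearMap.mem_range_self σ x)
  have hWσ : ∀ w, g.val *ᵥ w = w → ∃ x, σ x = w := fun w hw => LinearMap.mem_range.1 (hσr.symm ▸ mem_fix.2 hw)
  choose pW pU hpW hpU hdec using three_decomp (g := g) h3
  have huniq : ∀ {w u x}, g.val *ᵥ w = w → u ∈ LinearMap.range (nMap g) → w + u = x → pW x = w := by
    intro w u x hw hu e
    refine vadd_eq_zero (fix_range_zero h3 (u := pW x + w) ?_ (by rw [Matrix.mulVec_add, hpW, hw]))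
    have : pW x + w = pU x + u := by
      refine vadd_eq_zero ?_
      calc pW x + w + (pU x + u) = (pW x + pU x) + (w + u) := by abel
        _ = 0 := by rw [hdec, e, vadd_self]
    rw [this]; exact add_mem (hpU x) hu
  let PW : (ι → ZMod 2) →ₗ[ZMod 2] (ι → ZMod 2) :=
    { toFun := pW
      map_add' := fun x y => huniq (by rw [Matrix.mulVec_add, hpW, hpW]) (add_mem (hpU x) (hpU y))
        (by rw [show pW x + pW y + (pU x + pU y) = (pW x + pU x) + (pW y + pU y) by abel, hdec, hdec])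
      map_smul' := fun c x => huniq (by rw [RingHom.id_apply, Matrix.mulVec_smul, hpW])
        (Submodule.smul_mem _ c (hpU x)) (by rw [RingHom.id_apply, ← smul_add, hdec]) }
  obtain ⟨τ, hτ⟩ := σ.exists_leftInverse_of_injective (LinearMap.ker_eq_bot.2 hσi)
  have hτσ : ∀ x, τ (σ x) = x := fun x => LinearMap.congr_fun hτ x
  have hστ : ∀ w, g.val *ᵥ w = w → σ (τ w) = w := fun w hw => by
    obtain ⟨x, rfl⟩ := hWσ w hw; rw [hτσ]
  have hQsum : ∀ x, Q x = Q (pW x) + Q (pU x) := fun x => by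
    conv_lhs => rw [← hdec x, C.add, P.rot1.orth C (hpW x) (hpU x), add_zero]
  set R := Subgroup.centralizer ({g} : Set (GL ι (ZMod 2))) ⊓ isometryGroup (ZMod 2) Q with hR
  have hmR : ∀ {k}, k ∈ R → Commute g k := fun hk =>
    (Subgroup.mem_centralizer_singleton_iff.1 hk.1).symm
  let T : GL ((Fin 2 ⊕ Fin 2) ⊕ Fin 2) (ZMod 2) ≃* _ :=
    Matrix.GeneralLinearGroup.toLin.trans
      (LinearMap.GeneralLinearGroup.generalLinearEquiv (ZMod 2) ((Fin 2 ⊕ Fin 2) ⊕ Fin 2 → ZMod 2))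
  have hT : ∀ k x, T k x = k.val *ᵥ x := fun _ _ => rfl
  let S : GL ι (ZMod 2) ≃* _ :=
    Matrix.GeneralLinearGroup.toLin.trans
      (LinearMap.GeneralLinearGroup.generalLinearEquiv (ZMod 2) (ι → ZMod 2))
  have hS : ∀ k x, S k x = k.val *ᵥ x := fun _ _ => rfl
  let res : ∀ k : R, ((Fin 2 ⊕ Fin 2) ⊕ Fin 2 → ZMod 2) ≃ₗ[ZMod 2] ((Fin 2 ⊕ Fin 2) ⊕ Fin 2 → ZMod 2) :=
    fun k =>
    { toFun := fun x => τ ((k : GL ι (ZMod 2)).val *ᵥ σ x)
      invFun := fun x => τ ((k⁻¹ : GL ι (ZMod 2)).val *ᵥ σ x)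
      map_add' := fun x y => by rw [map_add, Matrix.mulVec_add, map_add]
      map_smul' := fun c x => by rw [map_smul, Matrix.mulVec_smul, map_smul, RingHom.id_apply]
      left_inv := fun x => by
        show τ ((k⁻¹ : GL ι (ZMod 2)).val *ᵥ σ (τ ((k : GL ι (ZMod 2)).val *ᵥ σ x))) = x
        rw [hστ _ (fix_inv (hmR k.2) (hσW x)), inv_act, hτσ]
      right_inv := fun x => by
        show τ ((k : GL ι (ZMod 2)).val *ᵥ σ (τ ((k⁻¹ : GL ι (ZMod 2)).val *ᵥ σ x))) = x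
        rw [hστ _ (fix_inv (hmR k.2).inv_right (hσW x)), act_inv, hτσ] }
  have hresiso : ∀ k : R, T.symm (res k) ∈ isometryGroup (ZMod 2) (Cfsg.quadFormMinus 2 (ZMod 2) 1 1) :=
    fun k => mem_iso.2 fun x => by
      rw [← hT, T.apply_symm_apply, ← hσq, ← hσq]
      show Q (σ (τ ((k : GL ι (ZMod 2)).val *ᵥ σ x))) = _
      rw [hστ _ (fix_inv (hmR k.2) (hσW x)), mem_iso.1 k.2.2]
  let ρ : R →* ↥(isometryGroup (ZMod 2) (Cfsg.quadFormMinus 2 (ZMod 2) 1 1)) :=
    MonoidHom.mk' (fun k => ⟨T.symm (res k), hresiso k⟩) fun j k => Subtype.ext (T.injective (by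
      show T (T.symm (res (j * k))) = T (T.symm (res j) * T.symm (res k))
      rw [map_mul, T.apply_symm_apply, T.apply_symm_apply, T.apply_symm_apply]
      refine LinearEquiv.ext fun x => ?_
      show τ (((j : GL ι (ZMod 2)) * k).val *ᵥ σ x) = τ ((j : GL ι (ZMod 2)).val *ᵥ σ (τ _))
      rw [hστ _ (fix_inv (hmR k.2) (hσW x)), mul_act]))
  have hρ : ∀ (k : R) x, σ ((ρ k).1.val *ᵥ x) = (k : GL ι (ZMod 2)).val *ᵥ σ x := fun k x => by
    show σ ((T.symm (res k)).val *ᵥ x) = _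
    rw [← hT, T.apply_symm_apply]
    exact hστ _ (fix_inv (hmR k.2) (hσW x))
  let ext : ↥(isometryGroup (ZMod 2) (Cfsg.quadFormMinus 2 (ZMod 2) 1 1)) →
      (ι → ZMod 2) →ₗ[ZMod 2] (ι → ZMod 2) := fun m =>
    σ.comp ((Matrix.mulVecLin m.1.val).comp (τ.comp PW)) + (LinearMap.id + PW)
  have hext : ∀ m x, ext m x = σ (m.1.val *ᵥ τ (pW x)) + pU x := fun m x => by
    show σ (m.1.val *ᵥ τ (pW x)) + (x + pW x) = _
    congr 1
    nth_rewrite 1 [← hdec x]
    rw [add_comm (pW x), add_assoc, vadd_self, add_zero]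
  have hextW : ∀ m x, pW (ext m x) = σ (m.1.val *ᵥ τ (pW x)) ∧ pU (ext m x) = pU x := fun m x => by
    have e1 := huniq (hσW _) (hpU x) (hext m x).symm
    refine ⟨e1, ?_⟩
    have := hdec (ext m x)
    rw [e1] at this
    conv_rhs at this => rw [hext]
    exact add_left_cancel this
  have hextc : ∀ m k x, ext (m * k) x = ext m (ext k x) := fun m k x => by
    rw [hext, hext m, (hextW k x).1, (hextW k x).2, hτσ, Subgroup.coe_mul, mul_act]
  have hext1 : ∀ x, ext 1 x = x := fun x => by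
    rw [hext, OneMemClass.coe_one, Units.val_one, Matrix.one_mulVec, hστ _ (hpW x), hdec]
  let extE : ↥(isometryGroup (ZMod 2) (Cfsg.quadFormMinus 2 (ZMod 2) 1 1)) →
      ((ι → ZMod 2) ≃ₗ[ZMod 2] (ι → ZMod 2)) := fun m =>
    { ext m with
      invFun := ext m⁻¹
      left_inv := fun x => by
        show ext m⁻¹ (ext m x) = x
        rw [← hextc, inv_mul_cancel, hext1]
      right_inv := fun x => by
        show ext m (ext m⁻¹ x) = x
        rw [← hextc, mul_inv_cancel, hext1] }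
  let E : ↥(isometryGroup (ZMod 2) (Cfsg.quadFormMinus 2 (ZMod 2) 1 1)) →* GL ι (ZMod 2) :=
    MonoidHom.mk' (fun m => S.symm (extE m)) fun m k => S.injective (by
      rw [map_mul, S.apply_symm_apply, S.apply_symm_apply, S.apply_symm_apply]
      exact LinearEquiv.ext fun x => hextc m k x)
  have hE : ∀ m x, (E m).val *ᵥ x = ext m x := fun m x => by
    rw [← hS, show E m = S.symm (extE m) from rfl, S.apply_symm_apply]; rfl
  have hEiso : ∀ m, E m ∈ isometryGroup (ZMod 2) Q := fun m => mem_iso.2 fun x => by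
    rw [hE, hQsum, (hextW m x).1, (hextW m x).2, hσq, mem_iso.1 m.2, ← hσq, hστ _ (hpW x), ← hQsum]
  have hEc : ∀ m, Commute g (E m) := fun m => gl_ext fun x => by
    rw [mul_act, mul_act, hE, hE, hext, hext, Matrix.mulVec_add, hσW]
    have e1 := huniq (x := g.val *ᵥ x) (hpW x) (range_inv (Commute.refl g) (hpU x)) (by
      conv_rhs => rw [← hdec x, Matrix.mulVec_add, hpW])
    have e2 : pU (g.val *ᵥ x) = g.val *ᵥ pU x := by
      have := hdec (g.val *ᵥ x)
      rw [e1] at this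
      conv_rhs at this => rw [← hdec x, Matrix.mulVec_add, hpW]
      exact add_left_cancel this
    rw [e1, e2]
  let E' : ↥(isometryGroup (ZMod 2) (Cfsg.quadFormMinus 2 (ZMod 2) 1 1)) →* R :=
    E.codRestrict R fun m => ⟨Subgroup.mem_centralizer_singleton_iff.2 (hEc m).eq.symm, hEiso m⟩
  have hρE : ∀ m, ρ (E' m) = m := fun m => Subtype.ext (gl_ext fun x => hσi (by
    rw [hρ]
    show (E m).val *ᵥ σ x = _
    have e := huniq (hσW x) (Submodule.zero_mem _) (add_zero (σ x))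
    rw [hE, hext, e, hτσ]
    have := hdec (σ x)
    rw [e, add_eq_left] at this
    rw [this, add_zero]))
  have hgΩ : g ∈ Cfsg.Geo.omegaGL Q := by
    have hm := (SmallIso.omega_facts C (by omega) (Or.inr (Or.inr (by rw [P.eight]; norm_num)))).1 (⟨g, hgiso⟩ ^ 2)
    refine ⟨_, hm, ?_⟩
    show g ^ 2 * g ^ 2 = g
    rw [← pow_add, show 2 + 2 = 3 + 1 from rfl, pow_succ, h3, one_mul]
  set H := Cfsg.Geo.omegaGL Q ⊓ Subgroup.centralizer ({g} : Set (GL ι (ZMod 2))) with hH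
  have hHR : H ≤ R := fun k hk => ⟨hk.2, omegaGL_le_iso hk.1⟩
  let ρH := ρ.comp (Subgroup.inclusion hHR)
  have hEΩ : ∀ m, m ∈ Cfsg.Omega (ZMod 2) (Cfsg.quadFormMinus 2 (ZMod 2) 1 1) →
      E m ∈ Cfsg.Geo.omegaGL Q := fun m hm => by
    let Ei := E.codRestrict (isometryGroup (ZMod 2) Q) hEiso
    exact ⟨Ei m, (Subgroup.map_commutator _ _ Ei).le.trans
      (Subgroup.commutator_mono le_top le_top) ⟨m, hm, rfl⟩, rfl⟩
  have hΩle : Cfsg.Omega (ZMod 2) (Cfsg.quadFormMinus 2 (ZMod 2) 1 1) ≤ ρH.range := fun m hm =>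
    ⟨⟨E m, hEΩ m hm, (E' m).2.1⟩, hρE m⟩
  obtain ⟨Bm, Sm⟩ := Orth.exists_space_minus (F := ZMod 2) 2 1 1 (by decide)
  have hidx : (Cfsg.Omega (ZMod 2) (Cfsg.quadFormMinus 2 (ZMod 2) 1 1)).index = 2 :=
    (SmallIso.omega_facts Sm (by simp) (Or.inr (Or.inr (by simp)))).2.1 (show (2 : ZMod 2) = 0 by decide)
  have hne : ρH.range ≠ ⊤ := by
    intro htop
    obtain ⟨x0, hx0⟩ : ∃ x0, Cfsg.quadFormMinus 2 (ZMod 2) 1 1 x0 = 1 := ⟨Pi.single (.inr 0) 1, by decide⟩
    have hr : rGL (Cfsg.quadFormMinus 2 (ZMod 2) 1 1) x0 ∈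
        isometryGroup (ZMod 2) (Cfsg.quadFormMinus 2 (ZMod 2) 1 1) := rGL_mem' Sm hx0
    obtain ⟨k, hk⟩ := MonoidHom.mem_range.1 (htop ▸ Subgroup.mem_top (⟨_, hr⟩ :
      ↥(isometryGroup (ZMod 2) (Cfsg.quadFormMinus 2 (ZMod 2) 1 1))))
    obtain ⟨i, hi⟩ := P.rot1.power C (hmR (hHR k.2))
    have hQw : Q (σ x0) = 1 := by rw [hσq, hx0]
    have hgi : ∀ v, g.val *ᵥ v = v → ((g ^ i)⁻¹ : GL ι (ZMod 2)).val *ᵥ v = v := fun v hv => by
      rw [← zpow_natCast, ← zpow_neg, zpow_fix hv]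
    have hk' : ((g ^ i)⁻¹ : GL ι (ZMod 2)) * k = rGL Q (σ x0) := by
      refine gl_ext fun x => ?_
      rw [mul_act, rGL_apply C hQw, ← hdec x, Matrix.mulVec_add, Matrix.mulVec_add, map_add,
        P.rot1.orth C (hσW x0) (hpU x), add_zero, hi _ (hpU x), inv_act]
      obtain ⟨y, hy⟩ := hWσ _ (hpW x)
      rw [← hy, show (k : GL ι (ZMod 2)).val *ᵥ σ y = σ ((ρH k).1.val *ᵥ y) from
          (hρ (Subgroup.inclusion hHR k) y).symm, hk, hgi _ (hσW _), rGL_apply Sm hx0, map_add, map_smul,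
        show Bm x0 y = B (σ x0) (σ y) by
          have a1 := C.add (σ x0) (σ y)
          rw [← map_add, hσq, hσq, hσq, Sm.add] at a1
          exact add_left_cancel a1]
      abel
    have hrΩ : rGL Q (σ x0) ∈ Cfsg.Geo.omegaGL Q :=
      hk' ▸ mul_mem (inv_mem (pow_mem hgΩ i)) k.2.1
    obtain ⟨m, hm⟩ := (mem_omega_iff C hn he (rGL_mem' C hQw)).1 hrΩ
    obtain ⟨n, hn'⟩ := he
    have := fix_rGL_card C hQw
    omega
  have hrange : ρH.range = Cfsg.Omega (ZMod 2) (Cfsg.quadFormMinus 2 (ZMod 2) 1 1) := by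
    have h1 := Subgroup.index_dvd_of_le hΩle
    rw [hidx] at h1
    rcases (Nat.dvd_prime Nat.prime_two).1 h1 with h | h
    · exact absurd (Subgroup.index_eq_one.1 h) hne
    · refine (Subgroup.eq_of_le_of_card_ge hΩle ?_).symm
      have e1 := Subgroup.card_mul_index ρH.range
      have e2 := Subgroup.card_mul_index (Cfsg.Omega (ZMod 2) (Cfsg.quadFormMinus 2 (ZMod 2) 1 1))
      rw [h] at e1
      rw [hidx] at e2
      omega
  refine ⟨ρH.codRestrict _ fun k => hrange ▸ ⟨k, rfl⟩,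
    fun m => ⟨⟨E m.1, hEΩ m.1 m.2, (E' m.1).2.1⟩, Subtype.ext (hρE m.1)⟩, fun k => ?_⟩
  constructor
  · intro hk w hw
    obtain ⟨x, rfl⟩ := hWσ w hw
    have h1 : ρH k = 1 := congrArg Subtype.val hk
    rw [show (k : GL ι (ZMod 2)).val *ᵥ σ x = σ ((ρH k).1.val *ᵥ x) from
      (hρ (Subgroup.inclusion hHR k) x).symm, h1, OneMemClass.coe_one, Units.val_one, Matrix.one_mulVec]
  · intro hk
    refine Subtype.ext (Subtype.ext (gl_ext fun x => hσi ?_))
    show σ ((ρH k).1.val *ᵥ x) = σ ((1 : GL _ (ZMod 2)).val *ᵥ x)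
    rw [show σ ((ρH k).1.val *ᵥ x) = (k : GL ι (ZMod 2)).val *ᵥ σ x from hρ _ x, hk _ (hσW x),
      Units.val_one, Matrix.one_mulVec]

end Pair

end Cfsg.Lib.Extra.CoOneThree
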