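import Cfsg.Agent.Lib.Extra.CoOneThree.Quot
import Cfsg.Agent.Lib.Extra.SuzThree.Main
import Cfsg.Agent.Lib.Extra.SubExtra
import Cfsg.Agent.Lib.JankoFourOrder.ShapeType
import Cfsg.Agent.Lib.Local.CharPLocal
import Cfsg.Agent.Lib.Fischer.Relations.TwoPair.Fitting
import Cfsg.Agent.Lib.SUSixU43.Codes

/-!
# The centralizer of the first element modulo itself has the local structure of the Suzuki group
-/

set_option autoImplicit false
set_option linter.style.haveILetI false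

namespace Cfsg.Lib.Extra.CoOneThree

open Cfsg Module Cfsg.Lib.Linear Cfsg.Lib.Linear.Orth Cfsg.Lib.Extra Cfsg.Lib.Extra.Wide Cfsg.Lib.Extra.SuzLocal
open Cfsg.Lib.Extra.SuzThree (Three commute_fix q_four cmk_congr cmk_comm odd_three)
open scoped Matrix

variable {G : Type*} [Group G] {ι : Type} [Fintype ι] [DecidableEq ι] {D : Data G ι} {b y : G}

/-- `Ω⁻₆(2)` has no nontrivial normal two-subgroup. -/
theorem omega_two_bot {N : Subgroup ↥(Cfsg.Omega (ZMod 2) (Cfsg.quadFormMinus 2 (ZMod 2) 1 1))} (hN : N.Normal)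
    (hp : IsPGroup 2 N) : N = ⊥ := by
  haveI : Fact (Nat.Prime 2) := ⟨Nat.prime_two⟩
  have h2 : N ≤ Cfsg.pCore 2 ↥(Cfsg.Omega (ZMod 2) (Cfsg.quadFormMinus 2 (ZMod 2) 1 1)) := Cfsg.Lib.Core.le_pCore' hN hp
  have h3 := Cfsg.Lib.Core.pCore_map_le_of_isSubnormal (p := 2) (Subgroup.Normal.isSubnormal (H := Cfsg.Omega (ZMod 2) (Cfsg.quadFormMinus 2 (ZMod 2) 1 1)) inferInstance)
  obtain ⟨e⟩ := Cfsg.Lib.Fischer.Relations.TwoPair.isometry_six_minus_equiv (K := Cfsg.Lib.SUSixU43.R4)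
    (by rw [Cfsg.Lib.SUSixU43.card_r4]; norm_num)
  haveI : ((Cfsg.pCore 2 ↥(isometryGroup (ZMod 2) (Cfsg.quadFormMinus 2 (ZMod 2) 1 1))).map e.toMonoidHom).Normal :=
    Subgroup.Normal.map inferInstance _ e.surjective
  have hb := Cfsg.Lib.Fischer.Relations.TwoPair.aut_two_bot (F := Cfsg.Lib.SUSixU43.R4)
    (by rw [Cfsg.Lib.SUSixU43.card_r4]; norm_num) _ ((Cfsg.Lib.Core.pCore_isPGroup 2 _).map e.toMonoidHom)
  rw [Subgroup.map_eq_bot_iff_of_injective _ e.injective] at hb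
  have h4 := le_bot_iff.1 (((Subgroup.map_mono h2).trans h3).trans hb.le)
  rwa [Subgroup.map_eq_bot_iff_of_injective _ (Subgroup.subtype_injective _)] at h4

/-- A subgroup of `Q` through `z` is twice as large as its image. -/
theorem card_cls (H : Subgroup G) (hH : H ≤ D.Q) (hz : D.z ∈ H) (W : Submodule (ZMod 2) (ι → ZMod 2))
    (hW : ∀ x ∈ H, D.cls x ∈ W) (hsurj : ∀ v ∈ W, ∃ x ∈ H, D.cls x = v) :
    Nat.card H = 2 * Nat.card W := by
  let φ : H →* Multiplicative W :=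
    MonoidHom.mk' (fun a => Multiplicative.ofAdd ⟨D.cls a, hW a a.2⟩) fun a c => by
      rw [← ofAdd_add]
      exact congrArg _ (Subtype.ext (D.cls_mul a (hH a.2) c (hH c.2)))
  have hs : Function.Surjective φ := fun v => by
    obtain ⟨a, ha, e⟩ := hsurj _ (Multiplicative.toAdd v).2
    exact ⟨⟨a, ha⟩, congrArg Multiplicative.ofAdd (Subtype.ext e)⟩
  have hm : ∀ a : H, a ∈ φ.ker ↔ (a : G) = 1 ∨ (a : G) = D.z := fun a =>
    ⟨fun h => (D.cls_ker a (hH a.2)).1 (congrArg Subtype.val (ofAdd_eq_one.1 h)),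
      fun h => ofAdd_eq_one.2 (Subtype.ext ((D.cls_ker a (hH a.2)).2 h))⟩
  have hk : Nat.card φ.ker = 2 := by
    rw [Nat.card_eq_two_iff]
    refine ⟨⟨1, one_mem _⟩, ⟨⟨D.z, hz⟩, (hm _).2 (Or.inr rfl)⟩,
      fun h => D.ctx.ne_one (congrArg (fun x : φ.ker => ((x : H) : G)) h).symm,
      Set.eq_univ_iff_forall.2 fun x => ?_⟩
    rcases (hm x.1).1 x.2 with e | e
    · exact Or.inl (Subtype.ext (Subtype.ext e))
    · exact Or.inr (Subtype.ext (Subtype.ext e))
  rw [Subgroup.card_eq_card_quotient_mul_card_subgroup φ.ker,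
    Nat.card_congr (QuotientGroup.quotientKerEquivOfSurjective φ hs).toEquiv, hk,
    Nat.card_congr (Multiplicative.toAdd), mul_comm]

theorem z_mem_centralizer (hbz : Commute b D.z) : D.z ∈ D.Q ⊓ Subgroup.centralizer ({b} : Set G) :=
  ⟨D.ctx.mem, Subgroup.mem_centralizer_singleton_iff.2 hbz.eq.symm⟩

/-- The centralizer in `Q` has twice the size of the fixed space. -/
theorem card_fixed (hb3 : b ^ 3 = 1) (hbz : Commute b D.z) :
    Nat.card ↥(D.Q ⊓ Subgroup.centralizer ({b} : Set G)) = 2 * Nat.card ↥(fixSpace (D.act b)) :=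
  card_cls _ inf_le_left (z_mem_centralizer hbz) _
    (fun x hx => mem_fix.2 (D.fix_of_commute hbz hx.1
      (show Commute x b from Subgroup.mem_centralizer_singleton_iff.1 hx.2).symm))
    fun v hv => by
      obtain ⟨q, hq, rfl⟩ := D.cls_surj v
      exact ⟨q, ⟨hq, Subgroup.mem_centralizer_singleton_iff.2
        (commute_fix hb3 hbz hq (mem_fix.1 hv)).eq.symm⟩, rfl⟩

theorem order_three (hb : Three D b) : orderOf b = 3 := by
  haveI : Fact (Nat.Prime 3) := ⟨Nat.prime_three⟩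
  refine orderOf_eq_prime hb.cube fun e => ?_
  have h := hb.rk
  rw [e, D.act_one, show nMap (1 : GL ι (ZMod 2)) = 0 from LinearMap.ext fun x => by
    rw [nMap_apply, Units.val_one, Matrix.one_mulVec, LinearMap.zero_apply, vadd_self], LinearMap.range_zero,
    finrank_bot] at h
  norm_num at h

theorem eq_of_four (hb : Three D b) {a c : G} (ha : Commute a b) (hc : Commute c b) (ha4 : a ^ 4 = 1)
    (hc4 : c ^ 4 = 1) (e : cmk ha = cmk hc) : a = c := by
  obtain ⟨i, rfl⟩ := (cmk_eq ha hc).1 e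
  rw [(ha.zpow_right i).mul_pow, ha4, one_mul] at hc4
  obtain ⟨l, hl, hl'⟩ := SuzThree.zpow_three hb.cube i
  rw [hl', ← pow_mul, ← orderOf_dvd_iff_pow_eq_one, order_three hb] at hc4
  rw [hl', show l = 0 by omega, pow_zero, mul_one]

/-- The image of the central involution. -/
def zb (hb : Three D b) : CQ b := cmk hb.comm.symm

theorem exists_lift_zb (hb : Three D b) {c : CQ b} (h : Commute c (zb hb)) :
    ∃ (g : G) (hg : Commute g b), Commute g D.z ∧ cmk hg = c := by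
  obtain ⟨g, hg, rfl⟩ := cmk_surj c
  exact ⟨g, hg, cmk_commute (order_three hb) odd_three hg hb.comm.symm D.ctx.sq_z h, rfl⟩

/-- The image of the centralizer in `Q`. -/
def qb (hb : Three D b) : Subgroup ↥(Subgroup.centralizer ({zb hb} : Set (CQ b))) where
  carrier := {x | ∃ q ∈ D.Q, ∃ hq : Commute q b, cmk hq = (x : CQ b)}
  one_mem' := ⟨1, one_mem _, Commute.one_left _, rfl⟩
  mul_mem' := by
    rintro x x' ⟨q, hq, hc, e⟩ ⟨q', hq', hc', e'⟩
    exact ⟨q * q', mul_mem hq hq', hc.mul_left hc', by rw [← cmk_mul hc hc', e, e']; rfl⟩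
  inv_mem' := by
    rintro x ⟨q, hq, hc, e⟩
    exact ⟨q⁻¹, inv_mem hq, hc.inv_left, by rw [← cmk_inv hc, e]; rfl⟩

theorem qb_normal (hb : Three D b) : (qb hb).Normal := ⟨fun x hx c => by
  obtain ⟨q, hq, hc, e⟩ := hx
  obtain ⟨g, hg, hgz, e'⟩ := exists_lift_zb hb (Subgroup.mem_centralizer_singleton_iff.1 c.2)
  refine ⟨_, D.conj_mem hgz hq, (hg.mul_left hc).mul_left hg.inv_left, ?_⟩
  show cmk hg * cmk hc * (cmk hg)⁻¹ = (c : CQ b) * x * (c : CQ b)⁻¹
  rw [e, e']⟩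

theorem exists_qb_equiv (hb : Three D b) :
    Nonempty (↥(D.Q ⊓ Subgroup.centralizer ({b} : Set G)) ≃* ↥(qb hb)) := by
  have hc : ∀ q : ↥(D.Q ⊓ Subgroup.centralizer ({b} : Set G)), Commute (q : G) b := fun q =>
    Subgroup.mem_centralizer_singleton_iff.1 q.2.2
  let f : ↥(D.Q ⊓ Subgroup.centralizer ({b} : Set G)) →* ↥(qb hb) := MonoidHom.mk'
    (fun q => ⟨⟨cmk (hc q), Subgroup.mem_centralizer_singleton_iff.2
      (cmk_comm (ha := hc q) (hb := hb.comm.symm) (D.ctx.central _ q.2.1).symm).eq⟩, q, q.2.1, hc q, rfl⟩) fun q q' => rfl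
  refine ⟨MulEquiv.ofBijective f ⟨fun q q' e => Subtype.ext (eq_of_four hb (hc q) (hc q')
    (q_four q.2.1) (q_four q'.2.1) (congrArg (fun x : ↥(qb hb) => (x.1 : CQ b)) e)), ?_⟩⟩
  rintro ⟨x, q, hq, hqb, e⟩
  exact ⟨⟨q, hq, Subgroup.mem_centralizer_singleton_iff.2 hqb.eq⟩, Subtype.ext (Subtype.ext e)⟩

variable [Finite G] (P : Pair D.qf D.B (D.act b) (D.act y)) (hb : Three D b)
include P hb

theorem extraspecial_qb : Cfsg.IsExtraspecial 2 ↥(qb hb) ∧ Nat.card ↥(qb hb) = 2 ^ 7 := by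
  obtain ⟨f⟩ := exists_qb_equiv hb
  set R := D.Q ⊓ Subgroup.centralizer ({b} : Set G) with hR
  have hcard : Nat.card ↥R = 2 ^ 7 := by
    rw [card_fixed hb.cube hb.comm, Module.natCard_eq_pow_finrank (K := ZMod 2), Nat.card_zmod, P.fix_six]
    norm_num
  have hlift : ∀ v, (D.act b).val *ᵥ v = v → ∃ q ∈ R, D.cls q = v := fun v hv => by
    obtain ⟨q, hq, rfl⟩ := D.cls_surj v
    exact ⟨q, ⟨hq, Subgroup.mem_centralizer_singleton_iff.2 (commute_fix hb.cube hb.comm hq hv).eq.symm⟩, rfl⟩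
  have hperp : ∀ v, (D.act b).val *ᵥ v = v →
      (∀ w, (D.act b).val *ᵥ w = w → D.B v w = 0) → v = 0 := fun v hv h => by
    refine P.space.nondeg' fun x => ?_
    obtain ⟨w, r, hw, hr, rfl⟩ := SuzThree.three_decomp P.rot1.cube x
    rw [map_add, h w hw, P.rot1.orth P.space hv hr, add_zero]
  refine ⟨Cfsg.Lib.JankoFourOrder.isExtraspecial_congr f (Ctx.extraspecial_of D.ctx inf_le_left ?_ ?_), ?_⟩
  · obtain ⟨σ, hσi, hσr, -⟩ := P.exists_coords
    set v := σ (Pi.single (.inr 0) 1)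
    have hv : (D.act b).val *ᵥ v = v := mem_fix.1 (hσr ▸ LinearMap.mem_range_self σ _)
    have hv0 : v ≠ 0 := (map_ne_zero_iff σ hσi).2 fun e => by simpa using congrFun e (.inr 0)
    obtain ⟨w, hw, hvw⟩ : ∃ w, (D.act b).val *ᵥ w = w ∧ D.B v w ≠ 0 := by
      by_contra hno
      push Not at hno
      exact hv0 (hperp v hv hno)
    obtain ⟨p, hp, ep⟩ := hlift v hv
    obtain ⟨q, hq, eq'⟩ := hlift w hw
    exact ⟨p, hp, q, hq, fun hpq => hvw (by rw [← ep, ← eq']; exact (D.cls_comm p hp.1 q hq.1).1 hpq)⟩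
  · intro x hx hall
    refine (D.cls_ker x hx.1).1 (hperp _ (D.fix_of_commute hb.comm hx.1
      (show Commute x b from Subgroup.mem_centralizer_singleton_iff.1 hx.2).symm) fun w hw => ?_)
    obtain ⟨q, hq, rfl⟩ := hlift w hw
    exact (D.cls_comm x hx.1 q hq.1).1 (hall q hq)
  · rw [← Nat.card_congr f.toEquiv, hcard]

omit [Finite G] in
theorem centralizer_qb_le :
    Subgroup.centralizer (qb hb : Set ↥(Subgroup.centralizer ({zb hb} : Set (CQ b)))) ≤ qb hb := by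
  intro x hx
  obtain ⟨g, hg, hgz, e⟩ := exists_lift_zb hb (Subgroup.mem_centralizer_singleton_iff.1 x.2)
  have hfix : ∀ w, (D.act b).val *ᵥ w = w → (D.act g).val *ᵥ w = w := fun w hw => by
    obtain ⟨q, hq, rfl⟩ := D.cls_surj w
    have hqb : Commute q b := (commute_fix hb.cube hb.comm hq hw).symm
    have hqz : Commute q D.z := (D.ctx.central q hq).symm
    have h := congrArg Subtype.val (Subgroup.mem_centralizer_iff.1 hx
      ⟨cmk hqb, Subgroup.mem_centralizer_singleton_iff.2 (cmk_comm (ha := hqb) (hb := hb.comm.symm) hqz).eq⟩ ⟨q, hq, hqb, rfl⟩)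
    have hgq : g * q * g⁻¹ = q := eq_of_four hb ((hg.mul_left hqb).mul_left hg.inv_left) hqb
      (q_four (D.conj_mem hgz hq)) (q_four hq) (by
        show cmk hg * cmk hqb * (cmk hg)⁻¹ = cmk hqb
        rw [e]
        exact mul_inv_eq_iff_eq_mul.2 h.symm)
    rw [← D.act_cls g hgz q hq, hgq]
  have hc : Commute (D.act b) (D.act g) := by
    show D.act b * D.act g = D.act g * D.act b
    rw [← D.act_mul _ _ hb.comm hgz, ← D.act_mul _ _ hgz hb.comm, hg.eq]
  obtain ⟨i, hi⟩ := P.mem_powers hc hfix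
  have hbi := hb.comm.pow_left i
  refine ⟨(b ^ i)⁻¹ * g, (D.act_ker _ (hbi.inv_left.mul_left hgz)).1 ?_,
    (((Commute.refl b).pow_left i).inv_left).mul_left hg, ?_⟩
  · rw [D.act_mul _ _ hbi.inv_left hgz, D.act_inv hbi, D.act_pow hb.comm, hi, inv_mul_cancel]
  · rw [← e, cmk_eq]
    exact ⟨(i : ℤ), by rw [zpow_natCast, ((((Commute.refl b).pow_left i).inv_left.mul_left hg).pow_right i).eq,
      mul_inv_cancel_left]⟩

/-- The hypotheses of the recognition of the Suzuki group hold in the quotient. -/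
theorem local_data : orderOf (zb hb) = 2 ∧ ∃ _ : (qb hb).Normal,
    Cfsg.generalizedFittingSubgroup ↥(Subgroup.centralizer ({zb hb} : Set (CQ b))) = qb hb ∧
    Cfsg.IsExtraspecial 2 ↥(qb hb) ∧ Nat.card ↥(qb hb) = 2 ^ 7 ∧
    Nonempty ((↥(Subgroup.centralizer ({zb hb} : Set (CQ b))) ⧸ qb hb) ≃*
      ↥(Cfsg.Omega (ZMod 2) (Cfsg.quadFormMinus 2 (ZMod 2) 1 1))) ∧
    ∃ g : CQ b, (∃ hq : g * zb hb * g⁻¹ ∈ Subgroup.centralizer ({zb hb} : Set (CQ b)),
      (⟨g * zb hb * g⁻¹, hq⟩ : ↥(Subgroup.centralizer ({zb hb} : Set (CQ b)))) ∈ qb hb) ∧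
      g * zb hb * g⁻¹ ≠ zb hb := by
  classical
  haveI : Fact (Nat.Prime 2) := ⟨Nat.prime_two⟩
  haveI hn := qb_normal hb
  obtain ⟨hext, hcard⟩ := extraspecial_qb P hb
  obtain ⟨ρ, hρs, hρk⟩ := P.quot
  let H0 := Subgroup.centralizer ({b} : Set G) ⊓ Subgroup.centralizer ({D.z} : Set G)
  have hH0 : ∀ x : H0, Commute (x : G) b ∧ Commute (x : G) D.z := fun x =>
    ⟨Subgroup.mem_centralizer_singleton_iff.1 x.2.1, Subgroup.mem_centralizer_singleton_iff.1 x.2.2⟩
  let Φ : H0 →* ↥(Subgroup.centralizer ({zb hb} : Set (CQ b))) := MonoidHom.mk'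
    (fun x => ⟨cmk (hH0 x).1, Subgroup.mem_centralizer_singleton_iff.2
      (cmk_comm (ha := (hH0 x).1) (hb := hb.comm.symm) (hH0 x).2).eq⟩) fun x x' => rfl
  have hΦ : Function.Surjective Φ := fun c => by
    obtain ⟨g, hg, hgz, e⟩ := exists_lift_zb hb (Subgroup.mem_centralizer_singleton_iff.1 c.2)
    exact ⟨⟨g, Subgroup.mem_centralizer_singleton_iff.2 hg.eq,
      Subgroup.mem_centralizer_singleton_iff.2 hgz.eq⟩, Subtype.ext e⟩
  let act0 : H0 →* ↥(Cfsg.Geo.omegaGL D.qf ⊓ Subgroup.centralizer ({D.act b} : Set (GL ι (ZMod 2)))) :=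
    MonoidHom.mk' (fun x => ⟨D.act x, D.act_mem _ (hH0 x).2, Subgroup.mem_centralizer_singleton_iff.2 (by
      rw [← D.act_mul _ _ (hH0 x).2 hb.comm, ← D.act_mul _ _ hb.comm (hH0 x).2, (hH0 x).1.eq])⟩)
      fun x x' => Subtype.ext (D.act_mul _ _ (hH0 x).2 (hH0 x').2)
  let Ψ := ρ.comp act0
  have hΨ : Function.Surjective Ψ := fun m => by
    obtain ⟨k, rfl⟩ := hρs m
    obtain ⟨c, hcz, hcb, hc⟩ := SuzThree.lift_comm hb.cube hb.comm k.2.1
      (show Commute (D.act b) k from (Subgroup.mem_centralizer_singleton_iff.1 k.2.2).symm)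
    exact ⟨⟨c, Subgroup.mem_centralizer_singleton_iff.2 hcb.eq,
      Subgroup.mem_centralizer_singleton_iff.2 hcz.eq⟩, congrArg ρ (Subtype.ext hc)⟩
  have hker : Φ.ker ≤ Ψ.ker := fun x hx => by
    obtain ⟨i, hi⟩ := (cmk_one (hH0 x).1).1 (congrArg Subtype.val (MonoidHom.mem_ker.1 hx))
    obtain ⟨l, -, hl⟩ := SuzThree.zpow_three hb.cube i
    refine (hρk _).2 fun w hw => ?_
    show (D.act (x : G)).val *ᵥ w = w
    rw [hi, hl, D.act_pow hb.comm, pow_fix hw]
  let π := Φ.liftOfSurjective hΦ ⟨Ψ, hker⟩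
  have hπ : ∀ x, π (Φ x) = Ψ x := fun x => MonoidHom.liftOfRightInverse_comp_apply _ _ _ _ x
  have hπs : Function.Surjective π := fun m => by
    obtain ⟨x, rfl⟩ := hΨ m
    exact ⟨Φ x, hπ x⟩
  have hπk : π.ker = qb hb := by
    refine le_antisymm (fun c hc => ?_) fun c hc => ?_
    · obtain ⟨x, rfl⟩ := hΦ c
      have hx : Ψ x = 1 := by rw [← hπ]; exact hc
      have hxb : Commute (D.act b) (D.act (x : G)) :=
        (Subgroup.mem_centralizer_singleton_iff.1 (act0 x).2.2).symm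
      obtain ⟨i, hi⟩ := P.mem_powers hxb ((hρk _).1 hx)
      have hbi := hb.comm.pow_left i
      refine ⟨(b ^ i)⁻¹ * x, (D.act_ker _ (hbi.inv_left.mul_left (hH0 x).2)).1 ?_,
        (((Commute.refl b).pow_left i).inv_left).mul_left (hH0 x).1, ?_⟩
      · rw [D.act_mul _ _ hbi.inv_left (hH0 x).2, D.act_inv hbi, D.act_pow hb.comm, hi, inv_mul_cancel]
      · refine (cmk_eq _ (hH0 x).1).2 ⟨(i : ℤ), ?_⟩
        rw [zpow_natCast, ((((Commute.refl b).pow_left i).inv_left.mul_left (hH0 x).1).pow_right i).eq,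
          mul_inv_cancel_left]
    · obtain ⟨q, hq, hqb, e⟩ := hc
      have hce : c = Φ ⟨q, Subgroup.mem_centralizer_singleton_iff.2 hqb.eq,
          Subgroup.mem_centralizer_singleton_iff.2 (D.ctx.central q hq).eq.symm⟩ := Subtype.ext e.symm
      rw [MonoidHom.mem_ker, hce, hπ]
      refine (hρk _).2 fun w _ => ?_
      show (D.act q).val *ᵥ w = w
      rw [D.act_q hq, Units.val_one, Matrix.one_mulVec]
  let e : (↥(Subgroup.centralizer ({zb hb} : Set (CQ b))) ⧸ qb hb) ≃*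
      ↥(Cfsg.Omega (ZMod 2) (Cfsg.quadFormMinus 2 (ZMod 2) 1 1)) :=
    (QuotientGroup.quotientMulEquivOfEq hπk.symm).trans (QuotientGroup.quotientKerEquivOfSurjective π hπs)
  refine ⟨cmk_order_two (order_three hb) odd_three hb.comm.symm D.ctx.sq_z D.ctx.ne_one, hn, ?_, hext, hcard,
    ⟨e⟩, ?_⟩
  · have hsub : Cfsg.pCore 2 ↥(Subgroup.centralizer ({zb hb} : Set (CQ b))) = qb hb := by
      refine le_antisymm ?_ (Cfsg.Lib.Core.le_pCore' hn (IsPGroup.of_card (n := 7) hcard))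
      rw [← hπk, ← Subgroup.map_eq_bot_iff]
      exact omega_two_bot (Subgroup.Normal.map inferInstance π hπs)
        ((Cfsg.Lib.Core.pCore_isPGroup 2 _).map π)
    rw [← hsub]
    exact (Cfsg.Lib.Local.generalizedFitting_eq_pCore_iff _).2 (by rw [hsub]; exact centralizer_qb_le P hb)
  · obtain ⟨a, c, ga, -, -, -, a0, -, -, qa, -, -⟩ := P.line
    obtain ⟨t, ht, rfl⟩ := D.cls_surj a
    have hbt : Commute b t := commute_fix hb.cube hb.comm ht ga
    have hpt : D.Point t := ⟨ht, (D.cls_sq t ht).2 qa, fun e => a0 (by rw [e, D.cls_one]),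
      fun e => a0 (by rw [e, D.cls_z])⟩
    obtain ⟨r, hr, er⟩ := SuzThree.fused hb.cube hb.comm hpt hbt
    have htz : Commute t D.z := (D.ctx.central t ht).symm
    have htb : Commute (t * D.z) b := hbt.symm.mul_left hb.comm.symm
    have e1 : cmk hr * zb hb * (cmk hr)⁻¹ = cmk htb := by
      show cmk ((hr.mul_left hb.comm.symm).mul_left hr.inv_left) = cmk htb
      exact cmk_congr er
    have hmz : cmk htb ∈ Subgroup.centralizer ({zb hb} : Set (CQ b)) :=
      Subgroup.mem_centralizer_singleton_iff.2 (cmk_comm (ha := htb) (hb := hb.comm.symm) (htz.mul_left (Commute.refl _))).eq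
    refine ⟨cmk hr, ⟨e1 ▸ hmz, t * D.z, mul_mem ht D.ctx.mem, htb, e1.symm⟩, fun h => ?_⟩
    rw [e1] at h
    have := cmk_inj_sq (order_three hb) odd_three htb hb.comm.symm
      (by rw [htz.symm.mul_mul_mul_comm, hpt.sq, one_mul, D.ctx.sq_z]) D.ctx.sq_z h
    exact hpt.ne_one (mul_eq_right.1 this)

end Cfsg.Lib.Extra.CoOneThree
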